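import Cfsg.Agent.KSG55.Sp.Core
import Cfsg.Agent.KSG55.Lin.Bruhat
import Cfsg.Agent.KSG55.Lin.FieldChoice
import Cfsg.Agent.KSG55.Lin.Orbit

set_option autoImplicit false

/-!
The unipotent radical in a group satisfying few relations: central root group, commutators and order.
-/

namespace Cfsg.Agent.KSG55.SU3

open Polynomial Matrix Cfsg.Agent.KSG55.Lin

universe u

variable {K : Type*} [Field K] {G : Type u} [Group G]

/-- The basic relations between the torus element and the long root group. -/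
structure Base (κ : SpecialLinearGroup (Fin 2) K →* G) (hh : G) (a : Kˣ) : Prop where
  gen : ∀ x : Kˣ, x ∈ Submonoid.powers a
  z1 : hh * κ (mU 1) * hh⁻¹ = κ (mU (a : K))
  comH : Commute hh (κ (mH a))
  order : ∃ N, 0 < N ∧ hh ^ N = 1

namespace Base

variable {κ : SpecialLinearGroup (Fin 2) K →* G} {hh : G} {a : Kˣ} (D : Base κ hh a)
include D

theorem z_conj [Finite K] (t : K) : hh * κ (mU t) * hh⁻¹ = κ (mU ((a : K) * t)) := by
  induction t using Sp.sq_induction with
  | h0 => simp [mU_zero]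
  | hadd x y hx hy =>
    rw [mul_add, ← mU_mul, ← mU_mul, map_mul, map_mul, ← hx, ← hy]; group
  | hneg x hx =>
    have e : ∀ s : K, κ (mU (-s)) = (κ (mU s))⁻¹ := fun s =>
      eq_inv_of_mul_eq_one_left (by rw [← map_mul, mU_mul, neg_add_cancel, mU_zero, map_one])
    rw [mul_neg, e, e, ← hx]; group
  | hsq y =>
    obtain ⟨k, rfl⟩ := D.gen y
    have hc : Commute hh (κ (mH (a ^ k))) := by rw [← mH_pow, map_pow]; exact D.comH.pow_right k
    have e : κ (mU (((a ^ k : Kˣ) : K) ^ 2)) = κ (mH (a ^ k)) * κ (mU 1) * (κ (mH (a ^ k)))⁻¹ := by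
      rw [← map_mul, ← map_inv, ← map_mul, mH_conj, mul_one]
    rw [e, show hh * (κ (mH (a ^ k)) * κ (mU 1) * (κ (mH (a ^ k)))⁻¹) * hh⁻¹ =
      (hh * κ (mH (a ^ k))) * κ (mU 1) * (hh * κ (mH (a ^ k)))⁻¹ by group, hc.eq,
      show κ (mH (a ^ k)) * hh * κ (mU 1) * (κ (mH (a ^ k)) * hh)⁻¹ =
        κ (mH (a ^ k)) * (hh * κ (mU 1) * hh⁻¹) * (κ (mH (a ^ k)))⁻¹ by group, D.z1,
      ← map_inv, ← map_mul, ← map_mul, mH_conj, mul_comm]

theorem z_orb [Finite K] (l : ℕ) (t : K) : orb hh (κ (mU t)) l = κ (mU ((a : K) ^ l * t)) := by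
  induction l with
  | zero => simp [orb_zero]
  | succ l ih => rw [← orb_succ, ih, D.z_conj, pow_succ']; ring_nf

/-- Commutation with a root element, moved by the torus. -/
theorem comm_orb [Finite K] (v : G) (l : ℕ) (t : K) :
    Commute (orb hh v l) (κ (mU ((a : K) ^ l * t))) ↔ Commute v (κ (mU t)) := by
  rw [← D.z_orb]
  exact Commute.conj_iff _

theorem periodic (v : G) : ∃ N, 0 < N ∧ ∀ l k : ℕ, orb hh v (l + k * N) = orb hh v l := by
  obtain ⟨N, hN, e⟩ := D.order
  exact ⟨N, hN, fun l k => by rw [orb, orb, pow_add, mul_comm k N, pow_mul, e, one_pow, mul_one]⟩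

end Base

theorem coe_orb {S : Subgroup G} (x y : S) (l : ℕ) : ((orb x y l : S) : G) = orb (x : G) (y : G) l :=
  map_orb S.subtype x y l

theorem coe_polyWord {S : Subgroup G} {p : ℕ} (x y : S) (P : (ZMod p)[X]) :
    ((polyWord x y P : S) : G) = polyWord (x : G) (y : G) P :=
  map_polyWord S.subtype x y P

/-- The long root group. -/
def Zr (κ : SpecialLinearGroup (Fin 2) K →* G) : Subgroup G :=
  (κ.comp (mUHom : Multiplicative K →* _)).range

theorem mem_Zr {κ : SpecialLinearGroup (Fin 2) K →* G} {g : G} : g ∈ Zr κ ↔ ∃ t : K, κ (mU t) = g :=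
  ⟨fun ⟨t, ht⟩ => ⟨t.toAdd, ht⟩, fun ⟨t, ht⟩ => ⟨Multiplicative.ofAdd t, ht⟩⟩

variable {κ : SpecialLinearGroup (Fin 2) K →* G} {hh : G} {a : Kˣ}

/-- All conjugates centralize the root group, once they centralize one element. -/
theorem central_of_one [Finite K] (D : Base κ hh a) {v : G} (h : ∀ l, Commute (orb hh v l) (κ (mU 1))) :
    ∀ (l : ℕ) (t : K), Commute (orb hh v l) (κ (mU t)) := by
  intro l t
  rcases eq_or_ne t 0 with rfl | ht
  · rw [mU_zero, map_one]; exact Commute.one_right _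
  obtain ⟨k, hk⟩ := D.gen (Units.mk0 t ht)
  have hk' : (a : K) ^ k = t := by simpa using congrArg Units.val hk
  obtain ⟨N, hN, hper⟩ := D.periodic v
  have hl : k + (l + k * (N - 1)) = l + k * N := by
    have : k * N = k * (N - 1) + k := by rw [← Nat.mul_succ]; congr 1; omega
    omega
  have := (Commute.conj_iff (hh ^ k)).mpr (h (l + k * (N - 1)))
  rw [orb_add, hl, hper] at this
  rw [show hh ^ k * κ (mU 1) * (hh ^ k)⁻¹ = orb hh (κ (mU 1)) k from rfl, D.z_orb, mul_one, hk'] at this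
  exact this

theorem conj_Zr [Finite K] (D : Base κ hh a) {g : G} (hg : g ∈ Zr κ) : hh * g * hh⁻¹ ∈ Zr κ := by
  obtain ⟨t, rfl⟩ := mem_Zr.mp hg
  rw [D.z_conj]; exact mem_Zr.mpr ⟨_, rfl⟩

theorem hh_normalizes [Finite K] (D : Base κ hh a) : hh ∈ Subgroup.normalizer (Zr κ : Set G) := by
  refine Subgroup.mem_normalizer_iff.mpr fun g => ⟨fun hg => conj_Zr D hg, fun hg => ?_⟩
  obtain ⟨t, ht⟩ := mem_Zr.mp hg
  refine mem_Zr.mpr ⟨((a⁻¹ : Kˣ) : K) * t, ?_⟩
  have e := D.z_conj (((a⁻¹ : Kˣ) : K) * t)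
  rw [Units.mul_inv_cancel_left, ht] at e
  exact mul_left_cancel (mul_right_cancel e)

variable {v : G}

theorem v_normalizes (hc : ∀ (l : ℕ) (t : K), Commute (orb hh v l) (κ (mU t))) :
    v ∈ Subgroup.normalizer (Zr κ : Set G) := by
  refine Subgroup.centralizer_le_normalizer _ (Subgroup.mem_centralizer_iff.mpr fun g hg => ?_)
  obtain ⟨t, rfl⟩ := mem_Zr.mp hg
  have := hc 0 t
  rw [orb_zero] at this
  exact this.eq.symm

/-- A relation of degree `d` reduces commutation to the first `d` conjugates. -/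
theorem comm_of_low {Q : Type*} [Group Q] {p : ℕ} [Fact p.Prime] {h u : Q} {M : (ZMod p)[X]} (hM : M.Monic)
    (hrel : polyWord h u M = 1) (hlow : ∀ k < M.natDegree, Commute u (orb h u k)) :
    ∀ l, Commute u (orb h u l) := by
  set k := M.natDegree
  set B := Subgroup.closure (orb h u '' Set.Iio k) with hB
  have hcB : ∀ x ∈ B, Commute u x := fun x hx => by
    induction hx using Subgroup.closure_induction with
    | mem x hx => obtain ⟨l, hl, rfl⟩ := hx; exact hlow l hl
    | one => exact Commute.one_right _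
    | mul x y _ _ h1 h2 => exact h1.mul_right h2
    | inv x _ h1 => exact h1.inv_right
  have hkB : orb h u k ∈ B := by
    rw [polyWord, List.range_succ, List.map_append, List.prod_append, List.map_singleton, List.prod_singleton,
      show M.coeff k = 1 from hM.coeff_natDegree, ZMod.val_one, pow_one] at hrel
    rw [eq_inv_of_mul_eq_one_right hrel]
    refine inv_mem (Subgroup.list_prod_mem _ fun g hg => ?_)
    obtain ⟨l, hl, rfl⟩ := List.mem_map.mp hg
    exact pow_mem (Subgroup.subset_closure (k := orb h u '' Set.Iio k)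
      ⟨l, Set.mem_Iio.mpr (List.mem_range.mp hl), rfl⟩) _
  have hconj : ∀ x ∈ B, h * x * h⁻¹ ∈ B := fun x hx => by
    induction hx using Subgroup.closure_induction with
    | mem x hx =>
      obtain ⟨l, hl, rfl⟩ := hx
      rw [orb_succ]
      rcases Nat.lt_or_eq_of_le (Nat.succ_le_of_lt (Set.mem_Iio.mp hl)) with h' | h'
      · exact Subgroup.subset_closure ⟨l + 1, h', rfl⟩
      · rwa [show l + 1 = k from h']
    | one => simp
    | mul a b _ _ ha hb => rw [show h * (a * b) * h⁻¹ = (h * a * h⁻¹) * (h * b * h⁻¹) by group]; exact mul_mem ha hb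
    | inv a _ ha => rw [show h * a⁻¹ * h⁻¹ = (h * a * h⁻¹)⁻¹ by group]; exact inv_mem ha
  intro l
  refine hcB _ ?_
  induction l with
  | zero =>
    rcases Nat.eq_zero_or_pos k with h0 | h0
    · rwa [h0] at hkB
    · exact Subgroup.subset_closure ⟨0, h0, rfl⟩
  | succ l ih => rw [← orb_succ]; exact hconj _ ih

/-- The radical. -/
def Ug (κ : SpecialLinearGroup (Fin 2) K →* G) (hh v : G) : Subgroup G := orbGroup hh v ⊔ Zr κ

theorem Ug_conj [Finite K] (D : Base κ hh a) {g : G} (hg : g ∈ Ug κ hh v) : hh * g * hh⁻¹ ∈ Ug κ hh v := by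
  have : Ug κ hh v ≤ (Ug κ hh v).comap (MulAut.conj hh).toMonoidHom :=
    sup_le (fun x hx => Subgroup.mem_sup_left (orbGroup_conj hx)) (fun x hx => Subgroup.mem_sup_right (conj_Zr D hx))
  exact this hg

/-- Counting the radical. -/
theorem bound [Finite K] (D : Base κ hh a) {p : ℕ} [Fact p.Prime]
    (hc : ∀ (l : ℕ) (t : K), Commute (orb hh v l) (κ (mU t))) (hp : v ^ p ∈ Zr κ)
    {M : (ZMod p)[X]} (hM : M.Monic) (hMv : polyWord hh v M ∈ Zr κ)
    (hcomm : ∀ (Q : Type u) [Group Q] (π : ↥(Subgroup.normalizer (Zr κ : Set G)) →* Q),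
      (∀ x : ↥(Subgroup.normalizer (Zr κ : Set G)), (x : G) ∈ Zr κ → π x = 1) →
      polyWord (π ⟨hh, hh_normalizes D⟩) (π ⟨v, v_normalizes hc⟩) M = 1 →
      ∀ l, Commute (π ⟨v, v_normalizes hc⟩) (orb (π ⟨hh, hh_normalizes D⟩) (π ⟨v, v_normalizes hc⟩) l)) :
    (Ug κ hh v : Set G).Finite ∧ Nat.card (Ug κ hh v) ≤ p ^ M.natDegree * Nat.card K := by
  set Nz := Subgroup.normalizer (Zr κ : Set G)
  set h' : Nz := ⟨hh, hh_normalizes D⟩
  set v' : Nz := ⟨v, v_normalizes hc⟩
  set Z' := (Zr κ).subgroupOf Nz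
  haveI : Z'.Normal := Subgroup.normal_in_normalizer
  set π := QuotientGroup.mk' Z'
  have hker : ∀ x : Nz, (x : G) ∈ Zr κ → π x = 1 := fun x hx => (QuotientGroup.eq_one_iff x).mpr hx
  have hrel : polyWord (π h') (π v') M = 1 := by
    rw [← map_polyWord]
    exact hker _ (by rw [← Subgroup.coe_subtype, map_polyWord]; exact hMv)
  have hp' : π v' ^ p = 1 := by rw [← map_pow]; exact hker _ hp
  obtain ⟨hfin, hcard⟩ := card_orbGroup_le (hcomm _ π hker hrel) hp' hM hrel
  set K1 := orbGroup (π h') (π v')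
  set S := (K1.comap π).map Nz.subtype
  have hle : Ug κ hh v ≤ S := by
    refine sup_le ?_ ?_
    · rw [orbGroup, Subgroup.closure_le]
      rintro _ ⟨l, rfl⟩
      refine ⟨orb h' v' l, ?_, map_orb Nz.subtype h' v' l⟩
      show π (orb h' v' l) ∈ K1
      rw [map_orb]; exact mem_orbGroup _ _ _
    · intro g hg
      refine ⟨⟨g, Subgroup.le_normalizer hg⟩, ?_, rfl⟩
      show π _ ∈ K1
      rw [hker _ hg]; exact one_mem _
  haveI : Finite K1 := hfin.to_subtype
  haveI : Finite (Zr κ) := Finite.of_surjective (κ.comp mUHom).rangeRestrict (κ.comp mUHom).rangeRestrict_surjective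
  haveI : Finite Z' := Finite.of_equiv _ (Subgroup.subgroupOfEquivOfLe (Subgroup.le_normalizer (H := Zr κ))).symm.toEquiv
  let f : (K1.comap π) →* K1 := (π.comp (K1.comap π).subtype).codRestrict K1 fun x => x.2
  have hkerf : f.ker = Z'.subgroupOf (K1.comap π) := by
    ext x
    rw [MonoidHom.mem_ker, Subgroup.mem_subgroupOf, ← Subtype.coe_inj]
    exact QuotientGroup.eq_one_iff _
  have hZle : Z' ≤ K1.comap π := fun x hx => by
    show π x ∈ K1
    rw [hker x hx]; exact one_mem _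
  haveI : Finite f.ker := by
    rw [hkerf]; exact Finite.of_equiv _ (Subgroup.subgroupOfEquivOfLe hZle).symm.toEquiv
  haveI : Finite ((K1.comap π) ⧸ f.ker) :=
    Finite.of_injective _ (QuotientGroup.kerLift_injective f)
  haveI : Finite (K1.comap π) := Finite.of_subgroup_quotient f.ker
  haveI : Finite S := Finite.of_equiv _ (Subgroup.equivMapOfInjective _ Nz.subtype Nz.subtype_injective).toEquiv
  have hcS : Nat.card S ≤ p ^ M.natDegree * Nat.card K := by
    rw [← Nat.card_congr (Subgroup.equivMapOfInjective _ Nz.subtype Nz.subtype_injective).toEquiv,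
      Subgroup.card_eq_card_quotient_mul_card_subgroup f.ker]
    refine Nat.mul_le_mul ((Nat.card_le_card_of_injective _ (QuotientGroup.kerLift_injective f)).trans hcard) ?_
    rw [hkerf, Nat.card_congr (Subgroup.subgroupOfEquivOfLe hZle).toEquiv,
      Nat.card_congr (Subgroup.subgroupOfEquivOfLe (Subgroup.le_normalizer (H := Zr κ))).toEquiv,
      ← Nat.card_congr (Multiplicative.toAdd : Multiplicative K ≃ K)]
    exact Nat.card_le_card_of_surjective _ (κ.comp mUHom).rangeRestrict_surjective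
  exact ⟨Set.Finite.subset (Set.toFinite _) hle,
    (Nat.card_le_card_of_injective _ (Subgroup.inclusion_injective hle)).trans hcS⟩

/-- The radical from relations on small degrees. -/
theorem bound_brute [Finite K] (D : Base κ hh a) {p : ℕ} [Fact p.Prime] [Algebra (ZMod p) K]
    (hz : ∀ k < (minpoly (ZMod p) (a : K)).natDegree, Commute v (κ (mU ((a : K) ^ k))))
    (hp : v ^ p ∈ Zr κ) {M : (ZMod p)[X]} (hM : M.Monic) (hMv : polyWord hh v M ∈ Zr κ)
    (hlow : ∀ k < M.natDegree, v * orb hh v k * v⁻¹ * (orb hh v k)⁻¹ ∈ Zr κ) :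
    (∀ (l : ℕ) (t : K), Commute (orb hh v l) (κ (mU t))) ∧
      (Ug κ hh v : Set G).Finite ∧ Nat.card (Ug κ hh v) ≤ p ^ M.natDegree * Nat.card K := by
  let C : AddSubgroup K :=
    { carrier := {t | Commute v (κ (mU t))}
      zero_mem' := by simp [mU_zero]
      add_mem' := fun {x y} hx hy => by
        show Commute v (κ (mU (x + y)))
        rw [← mU_mul, map_mul]; exact Commute.mul_right hx hy
      neg_mem' := fun {x} hx => by
        show Commute v (κ (mU (-x)))
        rw [eq_inv_of_mul_eq_one_left (show κ (mU (-x)) * κ (mU x) = 1 by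
          rw [← map_mul, mU_mul, neg_add_cancel, mU_zero, map_one])]
        exact Commute.inv_right hx }
  have hall : ∀ t : K, t ∈ C := by
    intro t
    rcases eq_or_ne t 0 with rfl | ht
    · exact C.zero_mem
    obtain ⟨k, hk⟩ := D.gen (Units.mk0 t ht)
    have hk' : (a : K) ^ k = t := by simpa using congrArg Units.val hk
    set m := minpoly (ZMod p) (a : K)
    have hmon : m.Monic := minpoly.monic (Algebra.IsIntegral.isIntegral _)
    have hdeg : ((X ^ k : (ZMod p)[X]) %ₘ m).natDegree < m.natDegree :=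
      natDegree_modByMonic_lt _ hmon (minpoly.ne_one _ _)
    have e : t = aeval (a : K) ((X ^ k : (ZMod p)[X]) %ₘ m) := by
      rw [aeval_modByMonic_eq_self_of_root (minpoly.aeval _ _), map_pow, aeval_X, hk']
    rw [e, aeval_eq_sum_range' hdeg]
    refine C.sum_mem fun i hi => ?_
    rw [Algebra.smul_def, ← ZMod.natCast_zmod_val (((X ^ k : (ZMod p)[X]) %ₘ m).coeff i), map_natCast, ← nsmul_eq_mul]
    exact C.nsmul_mem (hz i (Finset.mem_range.mp hi)) _
  have hcen : ∀ (l : ℕ) (t : K), Commute (orb hh v l) (κ (mU t)) := central_of_one D fun l => by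
    have := (D.comm_orb v l (((a ^ l)⁻¹ : Kˣ) : K)).mpr (hall _)
    rwa [← Units.val_pow_eq_pow_val, Units.mul_inv] at this
  refine ⟨hcen, bound D hcen hp hM hMv fun Q _ π hπ hrel => comm_of_low hM hrel fun k hk => ?_⟩
  set v' : ↥(Subgroup.normalizer (Zr κ : Set G)) := ⟨v, v_normalizes hcen⟩
  set h' : ↥(Subgroup.normalizer (Zr κ : Set G)) := ⟨hh, hh_normalizes D⟩
  have h1 : π (v' * orb h' v' k * v'⁻¹ * (orb h' v' k)⁻¹) = 1 := hπ _ (by
    simpa [coe_orb, h', v', Subgroup.coe_mul] using hlow k hk)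
  rw [map_mul, map_mul, map_mul, map_inv, map_inv, map_orb, mul_inv_eq_one, mul_inv_eq_iff_eq_mul] at h1
  exact h1

/-- The radical from a linking relation. -/
theorem bound_link [Finite K] (D : Base κ hh a) {p : ℕ} [Fact p.Prime] [CharP K p] {i j c : ℕ}
    (hB : (a : K) ^ j = (a : K) ^ i + c) (h0 : Commute v (κ (mU 1))) (h1 : Commute v (κ (mU ((a : K) ^ i)⁻¹)))
    (hlink : (v * orb hh v i)⁻¹ * orb hh v j ∈ Zr κ) {P : (ZMod p)[X]}
    (hgen : (polyWord (hh ^ i) v P)⁻¹ * orb hh v 1 ∈ Zr κ) (hcomm : v * orb hh v i * v⁻¹ * (orb hh v i)⁻¹ ∈ Zr κ)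
    (hp : v ^ p ∈ Zr κ) {M : (ZMod p)[X]} (hM : M.Monic) (hMv : polyWord hh v M ∈ Zr κ) :
    (∀ (l : ℕ) (t : K), Commute (orb hh v l) (κ (mU t))) ∧
      (Ug κ hh v : Set G).Finite ∧ Nat.card (Ug κ hh v) ≤ p ^ M.natDegree * Nat.card K := by
  set A := (a : K) ^ i
  set B := (a : K) ^ j
  have hA0 : A ≠ 0 := pow_ne_zero _ a.ne_zero
  have hB0 : B ≠ 0 := pow_ne_zero _ a.ne_zero
  let Dp : K → Prop := fun t => Commute v (κ (mU t))
  have hzc : ∀ {g : G} (s : K), g ∈ Zr κ → Commute g (κ (mU s)) := fun {g} s hg => by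
    obtain ⟨t, rfl⟩ := mem_Zr.mp hg
    show _ * _ = _ * _
    rw [← map_mul, ← map_mul, mU_mul, mU_mul, add_comm]
  have hci : ∀ t, Commute (orb hh v i) (κ (mU t)) ↔ Dp (t / A) := fun t => by
    show _ ↔ Commute v _
    rw [← D.comm_orb v i (t / A), mul_div_cancel₀ _ hA0]
  have hcj : ∀ t, Commute (orb hh v j) (κ (mU t)) ↔ Dp (t / B) := fun t => by
    show _ ↔ Commute v _
    rw [← D.comm_orb v j (t / B), mul_div_cancel₀ _ hB0]
  have hzl := hlink
  set zl := (v * orb hh v i)⁻¹ * orb hh v j with hzld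
  have ej : orb hh v j = v * orb hh v i * zl := by rw [hzld]; group
  have U1 : ∀ t, Dp t → Dp (t / A) → Dp (t / B) := fun t ht hta => by
    rw [← hcj, ej]; exact (ht.mul_left ((hci t).mpr hta)).mul_left (hzc t hzl)
  have U2 : ∀ t, Dp (t / A) → Dp (t / B) → Dp t := fun t hta htb => by
    have e : v = orb hh v j * zl⁻¹ * (orb hh v i)⁻¹ := by rw [ej]; group
    show Commute v _
    rw [e]; exact (((hcj t).mpr htb).mul_left (hzc t hzl).inv_left).mul_left ((hci t).mpr hta).inv_left
  have U3 : ∀ t, Dp t → Dp (t / B) → Dp (t / A) := fun t ht htb => by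
    rw [← hci]
    have e : orb hh v i = v⁻¹ * orb hh v j * zl⁻¹ := by rw [ej]; group
    rw [e]; exact (ht.inv_left.mul_left ((hcj t).mpr htb)).mul_left (hzc t hzl).inv_left
  have Dsub : ∀ x y, Dp x → Dp y → Dp (x - y) := fun x y hx hy => by
    show Commute v (κ (mU (x - y)))
    rw [sub_eq_add_neg, ← mU_mul, map_mul, eq_inv_of_mul_eq_one_left (show κ (mU (-y)) * κ (mU y) = 1 by
      rw [← map_mul, mU_mul, neg_add_cancel, mU_zero, map_one])]
    exact hx.mul_right hy.inv_right
  have Dnsmul : ∀ x (n : ℕ), Dp x → Dp (n • x) := fun x n hx => by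
    show Commute v (κ (mU (n • x)))
    rw [← mU_pow, map_pow]; exact hx.pow_right n
  have hchain : ∀ k : ℕ, Dp ((A ^ k)⁻¹) := by
    by_cases hc : (c : K) = 0
    · rw [hc, add_zero] at hB
      have step : ∀ n : ℕ, ∀ k : ℕ, Dp ((A ^ (k + n))⁻¹) → Dp ((A ^ k)⁻¹) := fun n => by
        induction n with
        | zero => exact fun k h => h
        | succ n ih =>
          intro k h
          refine ih k ?_
          have e : (A ^ (k + n))⁻¹ / A = (A ^ (k + (n + 1)))⁻¹ := by field_simp; rw [← pow_succ]; rfl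
          exact U2 _ (e ▸ h) (by rw [hB, e]; exact h)
      intro k
      haveI : Fintype K := Fintype.ofFinite K
      have hq : 1 ≤ Fintype.card K - 1 := by have := Fintype.one_lt_card (α := K); omega
      obtain ⟨n, hn⟩ : ∃ n, k + n = (Fintype.card K - 1) * k := ⟨(Fintype.card K - 1) * k - k, by
        have := Nat.le_mul_of_pos_left k hq; omega⟩
      refine step n k ?_
      rw [hn, pow_mul, FiniteField.pow_card_sub_one_eq_one A hA0, one_pow, inv_one]
      exact h0
    · have key : ∀ k : ℕ, Dp ((A ^ k)⁻¹) ∧ Dp ((A ^ (k + 1))⁻¹) := by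
        intro k
        induction k with
        | zero => exact ⟨by simpa [Dp] using h0, by simpa [Dp] using h1⟩
        | succ k ih =>
          obtain ⟨hk, hk1⟩ := ih
          refine ⟨hk1, ?_⟩
          set s := (A ^ k)⁻¹
          have es : (A ^ (k + 1))⁻¹ = s / A := by rw [pow_succ, mul_inv]; exact (div_eq_mul_inv _ _).symm
          have es2 : (A ^ (k + 1 + 1))⁻¹ = s / A / A := by rw [pow_succ, mul_inv, es]; exact (div_eq_mul_inv _ _).symm
          rw [es] at hk1
          have h2 : Dp (s / B) := U1 s hk hk1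
          have h3 : Dp (s / A - s / B) := Dsub _ _ hk1 h2
          have e : s / A - s / B = c • (s / A / B) := by
            rw [nsmul_eq_mul]; field_simp; linear_combination s * hB
          have hcp : (c : ZMod p) ≠ 0 := fun h => hc (by
            rw [ZMod.natCast_eq_zero_iff] at *; exact (CharP.cast_eq_zero_iff K p c).mpr h)
          have h4 : Dp (s / A / B) := by
            have := Dnsmul _ ((c : ZMod p)⁻¹).val h3
            rwa [e, ← mul_nsmul, nsmul_eq_mul, show ((c * ((c : ZMod p)⁻¹).val : ℕ) : K) = 1 by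
              rw [← Nat.cast_one (R := K), CharP.natCast_eq_natCast K p, ← ZMod.natCast_eq_natCast_iff,
                Nat.cast_mul, ZMod.natCast_zmod_val, mul_inv_cancel₀ hcp, Nat.cast_one], one_mul] at this
          rw [es2]
          exact U3 _ hk1 h4
      exact fun k => (key k).1
  have hone : ∀ k : ℕ, Commute (orb (hh ^ i) v k) (κ (mU 1)) := fun k => by
    have := (D.comm_orb v (i * k) ((A ^ k)⁻¹)).mpr (hchain k)
    rw [pow_mul, mul_inv_cancel₀ (pow_ne_zero _ hA0)] at this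
    rwa [show orb hh v (i * k) = orb (hh ^ i) v k by rw [orb, orb, pow_mul]] at this
  set W := orbGroup (hh ^ i) v ⊔ Zr κ
  have hWc : ∀ g ∈ W, Commute g (κ (mU 1)) := fun g hg => by
    have : W ≤ Subgroup.centralizer {κ (mU (1 : K))} := sup_le
      (by rw [orbGroup, Subgroup.closure_le]; rintro _ ⟨k, rfl⟩
          exact Subgroup.mem_centralizer_singleton_iff.mpr (hone k).eq)
      (fun x hx => Subgroup.mem_centralizer_singleton_iff.mpr (hzc 1 hx).eq)
    exact Subgroup.mem_centralizer_singleton_iff.mp (this hg)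
  have hWi : W ≤ W.comap (MulAut.conj (hh ^ i)).toMonoidHom := sup_le
    (fun x hx => Subgroup.mem_sup_left (orbGroup_conj hx)) (fun x hx => by
      obtain ⟨t, rfl⟩ := mem_Zr.mp hx
      show hh ^ i * κ (mU t) * (hh ^ i)⁻¹ ∈ W
      exact Subgroup.mem_sup_right (mem_Zr.mpr ⟨_, (D.z_orb i t).symm⟩))
  have hv1 : orb hh v 1 ∈ W := by
    have h1 : polyWord (hh ^ i) v P ∈ W := Subgroup.mem_sup_left (Subgroup.list_prod_mem _ fun g hg => by
      obtain ⟨l, -, rfl⟩ := List.mem_map.mp hg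
      exact pow_mem (mem_orbGroup _ _ _) _)
    simpa using mul_mem h1 (show _ ∈ W from Subgroup.mem_sup_right hgen)
  have hWh : W ≤ W.comap (MulAut.conj hh).toMonoidHom := by
    refine sup_le ?_ fun x hx => Subgroup.mem_sup_right (conj_Zr D hx)
    rw [orbGroup, Subgroup.closure_le]
    rintro _ ⟨k, rfl⟩
    show hh * orb (hh ^ i) v k * hh⁻¹ ∈ W
    have : ∀ k : ℕ, (hh ^ i) ^ k * orb hh v 1 * ((hh ^ i) ^ k)⁻¹ ∈ W := fun k => by
      induction k with
      | zero => simpa using hv1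
      | succ k ih =>
        rw [pow_succ', show hh ^ i * (hh ^ i) ^ k * orb hh v 1 * (hh ^ i * (hh ^ i) ^ k)⁻¹ =
          hh ^ i * ((hh ^ i) ^ k * orb hh v 1 * ((hh ^ i) ^ k)⁻¹) * (hh ^ i)⁻¹ by group]
        exact hWi ih
    refine (show hh * orb (hh ^ i) v k * hh⁻¹ = (hh ^ i) ^ k * orb hh v 1 * ((hh ^ i) ^ k)⁻¹ from ?_) ▸ this k
    rw [orb, orb, pow_one, ← pow_mul,
      show hh * (hh ^ (i * k) * v * (hh ^ (i * k))⁻¹) * hh⁻¹ = hh * hh ^ (i * k) * v * (hh * hh ^ (i * k))⁻¹ by group,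
      ← pow_succ', pow_succ]
    group
  have hallW : ∀ l, orb hh v l ∈ W := fun l => by
    induction l with
    | zero => rw [orb_zero]; exact Subgroup.mem_sup_left (by simpa [orb_zero] using mem_orbGroup (hh ^ i) v 0)
    | succ l ih => rw [← orb_succ]; exact hWh ih
  have hcen := central_of_one D fun l => hWc _ (hallW l)
  refine ⟨hcen, bound D hcen hp hM hMv fun Q _ π hπ _ => ?_⟩
  set v' : ↥(Subgroup.normalizer (Zr κ : Set G)) := ⟨v, v_normalizes hcen⟩
  set h' : ↥(Subgroup.normalizer (Zr κ : Set G)) := ⟨hh, hh_normalizes D⟩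
  have e1 : π (v' * orb h' v' i * v'⁻¹ * (orb h' v' i)⁻¹) = 1 := hπ _ (by
    simpa [coe_orb, h', v', Subgroup.coe_mul] using hcomm)
  rw [map_mul, map_mul, map_mul, map_inv, map_inv, map_orb, mul_inv_eq_one, mul_inv_eq_iff_eq_mul] at e1
  have e2 : π ((v' * orb h' v' i)⁻¹ * orb h' v' j) = 1 := hπ _ (by
    simpa [coe_orb, h', v', zl, Subgroup.coe_mul, mul_assoc] using hlink)
  rw [map_mul, map_inv, map_mul, map_orb, map_orb, inv_mul_eq_one] at e2
  have e3 : π ((polyWord (h' ^ i) v' P)⁻¹ * orb h' v' 1) = 1 := hπ _ (by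
    simpa [coe_orb, coe_polyWord, h', v', Subgroup.coe_mul] using hgen)
  rw [map_mul, map_inv, map_polyWord, map_orb, map_pow, inv_mul_eq_one] at e3
  have ca := commute_of_link (a := π h' ^ i) (b := π h' ^ j) (Commute.pow_pow_self _ i j)
    (u := π v') (by simpa [orb, Commute, SemiconjBy] using e1) (by simpa [orb] using e2.symm)
  have hy : orb (π h') (π v') 1 ∈ orbGroup (π h' ^ i) (π v') := by
    rw [← e3]
    exact Subgroup.list_prod_mem _ fun g hg => by
      obtain ⟨l, -, rfl⟩ := List.mem_map.mp hg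
      exact pow_mem (mem_orbGroup _ _ _) _
  have inv : orbGroup (π h' ^ i) (π v') ≤
      (orbGroup (π h' ^ i) (π v')).comap (MulAut.conj (π h')).toMonoidHom := by
    conv_lhs => rw [orbGroup]
    rw [Subgroup.closure_le]
    rintro _ ⟨k, rfl⟩
    rw [SetLike.mem_coe, Subgroup.mem_comap]
    show π h' * orb (π h' ^ i) (π v') k * (π h')⁻¹ ∈ orbGroup (π h' ^ i) (π v')
    have : ∀ k : ℕ, (π h' ^ i) ^ k * orb (π h') (π v') 1 * ((π h' ^ i) ^ k)⁻¹ ∈ orbGroup (π h' ^ i) (π v') :=
      fun k => by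
        induction k with
        | zero => simpa using hy
        | succ k ih =>
          rw [pow_succ', show π h' ^ i * (π h' ^ i) ^ k * orb (π h') (π v') 1 * (π h' ^ i * (π h' ^ i) ^ k)⁻¹ =
            π h' ^ i * ((π h' ^ i) ^ k * orb (π h') (π v') 1 * ((π h' ^ i) ^ k)⁻¹) * (π h' ^ i)⁻¹ by group]
          exact orbGroup_conj ih
    refine (show π h' * orb (π h' ^ i) (π v') k * (π h')⁻¹ =
      (π h' ^ i) ^ k * orb (π h') (π v') 1 * ((π h' ^ i) ^ k)⁻¹ from ?_) ▸ this k
    rw [orb, orb, pow_one, ← pow_mul,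
      show π h' * (π h' ^ (i * k) * π v' * (π h' ^ (i * k))⁻¹) * (π h')⁻¹ =
        π h' * π h' ^ (i * k) * π v' * (π h' * π h' ^ (i * k))⁻¹ by group, ← pow_succ', pow_succ]
    group
  have all : ∀ l, orb (π h') (π v') l ∈ orbGroup (π h' ^ i) (π v') := fun l => by
    induction l with
    | zero => simpa [orb] using mem_orbGroup (π h' ^ i) (π v') 0
    | succ l ih => rw [← orb_succ]; exact inv ih
  exact fun l => orbGroup_commute ca (by simpa [orb] using mem_orbGroup (π h' ^ i) (π v') 0) (all l)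

end Cfsg.Agent.KSG55.SU3
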