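import Cfsg.Agent.KSG55.SU3.Model
import Cfsg.Agent.KSG55.Lin.FieldChoice

set_option autoImplicit false

/-! Field elements for the relations. -/

namespace Cfsg.Agent.KSG55.SU3

open Polynomial Cfsg.Agent.KSG55.Lin

variable {F : Type*} [Field F] [Fintype F] {q : ℕ} (hF : Fintype.card F = q ^ 2)
variable {ρ : Fˣ} (hρ : ∀ x : Fˣ, x ∈ Submonoid.powers ρ)

include hF

/-- The norm of the generator. -/
def normU (ρ : Fˣ) : (fixK hF)ˣ :=
  Units.mk0 ⟨(ρ : F) * (ρ : F) ^ q, (mem_fixK hF).mpr (by rw [mul_pow, Unitary.pow_q_pow_q hF, mul_comm])⟩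
    fun e => mul_ne_zero ρ.ne_zero (pow_ne_zero q ρ.ne_zero) (congrArg Subtype.val e)

theorem normU_coe (ρ : Fˣ) : ((normU hF ρ : fixK hF) : F) = (ρ : F) * (ρ : F) ^ q := rfl

theorem liftU_normU (ρ : Fˣ) : liftU hF (normU hF ρ) = ρ ^ (q + 1) :=
  Units.ext (by show (ρ : F) * (ρ : F) ^ q = _; rw [Units.val_pow_eq_pow_val, pow_succ'])

theorem card_fixK : Nat.card (fixK hF) = q := Unitary.card_fixed hF

include hρ

theorem orderOf_gen : orderOf ρ = q ^ 2 - 1 := by
  rw [orderOf_eq_card_of_forall_mem_zpowers fun x => mem_powers_iff_mem_zpowers.mp (hρ x), Nat.card_units,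
    Nat.card_eq_fintype_card, hF]

theorem normU_gen : ∀ x : (fixK hF)ˣ, x ∈ Submonoid.powers (normU hF ρ) := by
  intro x
  obtain ⟨k, hk⟩ := hρ (liftU hF x)
  have hk' : ρ ^ k = liftU hF x := hk
  have h1 : ρ ^ (k * (q - 1)) = 1 := by
    rw [pow_mul, hk']
    refine Units.ext ?_
    have hx : (((x : fixK hF) : F)) ^ q = ((x : fixK hF) : F) := fixK_pow hF _
    have hx0 : (((x : fixK hF) : F)) ≠ 0 := fun e => x.ne_zero (Subtype.ext e)
    simp [liftU]
    refine mul_right_cancel₀ hx0 ?_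
    rw [← pow_succ, Nat.sub_add_cancel (Unitary.q_pos hF), hx, one_mul]
  have hd := orderOf_dvd_of_pow_eq_one h1
  rw [orderOf_gen hF hρ, show q ^ 2 - 1 = (q + 1) * (q - 1) by rw [← Nat.sq_sub_sq, one_pow]] at hd
  obtain ⟨s, hs⟩ := Nat.dvd_of_mul_dvd_mul_right (by have := Unitary.two_le_q hF; omega) hd
  refine ⟨s, Units.map_injective (f := ((fixK hF).subtype : fixK hF →* F)) (fun a b h => Subtype.ext h) ?_⟩
  show liftU hF (normU hF ρ ^ s) = liftU hF x
  rw [liftU, map_pow, ← liftU, liftU_normU, ← pow_mul, ← hs, hk']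

omit hρ in
theorem eps_norm {l : F} (hl : l ≠ 0) : eps q l * eps q l ^ q = l * l ^ q := by
  rw [eps, div_pow, mul_pow, Unitary.pow_q_pow_q hF]
  have := pow_ne_zero q hl
  field_simp

variable {p : ℕ} [Fact p.Prime] [Algebra (ZMod p) F]

theorem adjoin_eps (hq : q ≠ 2) : Algebra.adjoin (ZMod p) {eps q (ρ : F)} = ⊤ := by
  by_contra hne
  obtain ⟨d, hd, he, hr⟩ := exists_subfield_pow hne
  rw [hF, sq] at hr
  have hrq : p ^ d ≤ q := Nat.mul_self_le_mul_self_iff.mp hr
  have h2 : 2 ≤ p ^ d := le_trans (Fact.out : p.Prime).two_le (Nat.le_self_pow (by omega) p)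
  obtain ⟨r, hr'⟩ : ∃ r, p ^ d = r + 1 := ⟨p ^ d - 1, by omega⟩
  rw [hr'] at he hrq
  set R := (ρ : F)
  have hR : R ≠ 0 := ρ.ne_zero
  have hRq : R ^ q ≠ 0 := pow_ne_zero q hR
  have e1 : (R * R) ^ r = (R ^ q) ^ r := by
    rw [eps, pow_succ] at he
    have h' := mul_right_cancel₀ (div_ne_zero (mul_ne_zero hR hR) hRq) (he.trans (one_mul _).symm)
    rw [div_pow, div_eq_one_iff_eq (pow_ne_zero r hRq)] at h'
    exact h'
  have e2 : ((R ^ q) * (R ^ q)) ^ r = R ^ r := by
    have := congrArg (· ^ q) e1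
    simp only [← pow_mul] at this
    rw [mul_comm r q, pow_mul, mul_pow, mul_comm (q * r) q, ← mul_assoc, pow_mul R (q * q), pow_mul R q q,
      Unitary.pow_q_pow_q hF] at this
    exact this
  have e3 : ρ ^ (3 * r) = 1 := by
    refine Units.ext ?_
    rw [Units.val_pow_eq_pow_val, Units.val_one, pow_mul]
    rw [mul_pow (R ^ q) (R ^ q), ← e1, ← mul_pow] at e2
    refine mul_right_cancel₀ (pow_ne_zero r hR) ?_
    rw [one_mul, ← mul_pow]
    show (R ^ 3 * R) ^ r = R ^ r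
    rw [← e2]; congr 1; ring
  have h3 := Nat.le_of_dvd (by omega) (orderOf_dvd_of_pow_eq_one e3)
  rw [orderOf_gen hF hρ] at h3
  have hq2 := Unitary.two_le_q hF
  obtain ⟨m, rfl⟩ : ∃ m, q = m + 3 := ⟨q - 3, by omega⟩
  have : (m + 3) ^ 2 = m * m + 6 * m + 9 := by ring
  omega

/-- The linking exponents. -/
theorem exists_link {e : ℕ} (he : q = p ^ e) (he4 : 4 ≤ e) :
    ∃ i j c : ℕ, (c : F) + eps q (ρ : F) ^ i * (eps q (ρ : F) ^ i) ^ q =
        eps q (ρ : F) ^ j * (eps q (ρ : F) ^ j) ^ q ∧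
      eps q (ρ : F) ^ j = 1 + eps q (ρ : F) ^ i ∧ Algebra.adjoin (ZMod p) {eps q (ρ : F) ^ i} = ⊤ := by
  haveI : CharP F p := charP_of_injective_algebraMap (algebraMap (ZMod p) F).injective p
  have hp := (Fact.out : p.Prime)
  set R := (ρ : F)
  have hR : R ≠ 0 := ρ.ne_zero
  have hord := orderOf_gen hF hρ
  have hq16 : 16 ≤ q := by
    rw [he]
    calc 16 = 2 ^ 4 := by norm_num
      _ ≤ p ^ 4 := Nat.pow_le_pow_left hp.two_le 4
      _ ≤ p ^ e := Nat.pow_le_pow_right hp.pos he4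
  have hpow : ∀ x : F, x ≠ 0 → ∃ k : ℕ, eps q (ρ : F) ^ k = eps q x := fun x hx => by
    obtain ⟨k, hk⟩ := hρ (Units.mk0 x hx)
    refine ⟨k, ?_⟩
    rw [← eps_pow, ← Units.val_pow_eq_pow_val]
    exact congrArg (eps q) (congrArg Units.val hk)
  have heu : ∀ u l : F, u ^ q = u → u ≠ 0 → eps q (u * l) = u * eps q l := fun u l hu hu0 => by
    rw [eps_mul]; congr 1; rw [eps, hu]; field_simp
  set w := R ^ 3 + (R ^ 3) ^ q with hwd
  have hw : w ≠ 0 := fun h => by
    have h1 : ρ ^ (6 * (q - 1)) = 1 := by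
      refine Units.ext ?_
      rw [Units.val_pow_eq_pow_val, Units.val_one]
      show R ^ (6 * (q - 1)) = 1
      refine mul_right_cancel₀ (pow_ne_zero 6 hR) ?_
      rw [one_mul, ← pow_add, show 6 * (q - 1) + 6 = 3 * q * 2 by omega, pow_mul,
        show 3 * q = q * 3 by ring, pow_mul R q 3, ← pow_mul R q 3, mul_comm q 3, pow_mul R 3 q,
        show (R ^ 3) ^ q = -(R ^ 3) by linear_combination h]
      ring
    have := Nat.le_of_dvd (by omega) (orderOf_dvd_of_pow_eq_one h1)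
    rw [hord] at this
    have h16 : 16 * q ≤ q ^ 2 := by rw [sq]; exact Nat.mul_le_mul_right q hq16
    omega
  have hwf : w ^ q = w := by rw [hwd, Unitary.add_pow_q hF, Unitary.pow_q_pow_q hF, add_comm]
  let τ : ℕ := if p = 2 then 1 else 2
  have hτ0 : (τ : F) ≠ 0 := by
    intro h
    rw [CharP.cast_eq_zero_iff F p] at h
    have h2 : τ = 1 ∨ τ = 2 := by simp only [τ]; split_ifs <;> simp
    rcases h2 with e | e <;> rw [e] at h
    · exact hp.ne_one (Nat.dvd_one.mp h)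
    · have := (Nat.prime_dvd_prime_iff_eq hp Nat.prime_two).mp h
      simp [τ, this] at e
  have hτf : (τ : F) ^ q = τ := map_natCast (Unitary.conjHom hF) τ
  set t := (τ : F) / w with htd
  have ht : t ^ q = t := by rw [htd, div_pow, hτf, hwf]
  have ht0 : t ≠ 0 := div_ne_zero hτ0 hw
  set y := t * R ^ 3 with hyd
  have hy0 : y ≠ 0 := mul_ne_zero ht0 (pow_ne_zero 3 hR)
  have hyT : y + y ^ q = (τ : F) := by
    rw [hyd, mul_pow, ht, ← mul_add, ← hwd, htd, div_mul_cancel₀ _ hw]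
  have hNR : (R * R ^ q) ^ q = R * R ^ q := by rw [mul_pow, Unitary.pow_q_pow_q hF, mul_comm]
  have hyE : y = eps q (t * (R * R ^ q) * R) := by
    rw [heu _ _ (by rw [mul_pow, ht, hNR]) (mul_ne_zero ht0 (mul_ne_zero hR (pow_ne_zero q hR))), eps, hyd]
    have := pow_ne_zero q hR
    field_simp
  obtain ⟨j, hj⟩ : ∃ j, eps q (ρ : F) ^ j = y := by
    rw [hyE]; exact hpow _ (mul_ne_zero (mul_ne_zero ht0 (mul_ne_zero hR (pow_ne_zero q hR))) hR)
  -- the class of `y` has large order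
  have hyfield : ∀ d : ℕ, 1 ≤ d → y ^ p ^ d = y → p ^ d * p ^ d ≤ q ^ 2 → False := by
    intro d hd hyd' hdle
    set g := Nat.gcd d (2 * e) with hg
    have hde : d ≤ e := by
      rw [sq, he] at hdle
      exact (Nat.pow_le_pow_iff_right hp.one_lt).mp (Nat.mul_self_le_mul_self_iff.mp hdle)
    have hpd : 1 ≤ p ^ d := Nat.one_le_pow _ _ hp.pos
    have h1 : y ^ (p ^ d - 1) = 1 := by
      refine mul_right_cancel₀ hy0 ?_
      rw [← pow_succ, Nat.sub_add_cancel hpd, hyd', one_mul]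
    have h2 : y ^ (p ^ (2 * e) - 1) = 1 := by
      rw [mul_comm 2 e, pow_mul, ← he, ← hF]
      exact FiniteField.pow_card_sub_one_eq_one y hy0
    have hyg : y ^ (p ^ g - 1) = 1 := by
      rw [hg, ← Nat.pow_sub_one_gcd_pow_sub_one]; exact pow_gcd_eq_one.mpr ⟨h1, h2⟩
    have htq : t ^ (q - 1) = 1 := mul_right_cancel₀ ht0 (by
      rw [← pow_succ, Nat.sub_add_cancel (by omega), ht, one_mul])
    have hρ1 : ρ ^ ((q - 1) * (3 * (p ^ g - 1))) = 1 := by
      refine Units.ext ?_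
      have := congrArg (· ^ (q - 1)) hyg
      simp only [one_pow, ← pow_mul] at this
      rw [hyd, mul_pow, show (p ^ g - 1) * (q - 1) = (q - 1) * (p ^ g - 1) by ring, pow_mul t, htq, one_pow,
        one_mul, ← pow_mul] at this
      rw [Units.val_pow_eq_pow_val, Units.val_one, ← this]
      show R ^ _ = R ^ _
      ring_nf
    have hdvd := orderOf_dvd_of_pow_eq_one hρ1
    rw [hord, show q ^ 2 - 1 = (q - 1) * (q + 1) by rw [mul_comm, ← Nat.sq_sub_sq, one_pow]] at hdvd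
    have hdvd' := Nat.dvd_of_mul_dvd_mul_left (by omega) hdvd
    have hgd : g ∣ d := Nat.gcd_dvd_left _ _
    have hge : g ∣ 2 * e := Nat.gcd_dvd_right _ _
    have hgpos : 1 ≤ g := Nat.pos_of_dvd_of_pos hgd (by omega)
    have hgle : g ≤ e := (Nat.le_of_dvd (by omega) hgd).trans hde
    rcases Nat.lt_or_ge g e with hlt | hge'
    · obtain ⟨m, hm⟩ := hge
      have hm3 : 3 ≤ m := by
        by_contra h
        have : g * m ≤ g * 2 := Nat.mul_le_mul_left g (by omega)
        omega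
      have : g * 3 ≤ g * m := Nat.mul_le_mul_left g hm3
      have h4 : p ^ g * 4 ≤ q := by
        rw [he, show e = g + (e - g) by omega, pow_add]
        refine Nat.mul_le_mul_left _ ?_
        calc 4 = 2 ^ 2 := by norm_num
          _ ≤ p ^ 2 := Nat.pow_le_pow_left hp.two_le 2
          _ ≤ p ^ (e - g) := Nat.pow_le_pow_right hp.pos (by omega)
      have h2g : 2 ≤ p ^ g := le_trans hp.two_le (Nat.le_self_pow (by omega) p)
      have := Nat.le_of_dvd (by omega) hdvd'
      omega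
    · have hgee : g = e := by omega
      rw [hgee, ← he] at hdvd'
      have h3 : (q + 1) ∣ 6 := by
        have h6 : 3 * (q + 1) = 3 * (q - 1) + 6 := by omega
        exact (Nat.dvd_add_right hdvd').mp (h6 ▸ Dvd.intro_left 3 rfl)
      have := Nat.le_of_dvd (by norm_num) h3
      omega
  have hyall : Algebra.adjoin (ZMod p) {y} = ⊤ := by
    by_contra hne
    obtain ⟨d, hd, h1, h2⟩ := exists_subfield_pow hne
    rw [hF] at h2
    exact hyfield d hd h1 h2
  have hy1 : y - 1 ≠ 0 := fun h => by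
    refine hyfield 1 le_rfl ?_ ?_
    · rw [sub_eq_zero.mp h, one_pow]
    · rw [pow_one, he, ← pow_mul, ← sq]
      exact Nat.pow_le_pow_right hp.pos (by omega)
  have hxadj : Algebra.adjoin (ZMod p) {y - 1} = ⊤ := by
    rw [eq_top_iff, ← hyall, Algebra.adjoin_le_iff, Set.singleton_subset_iff, SetLike.mem_coe]
    have h := add_mem (Algebra.self_mem_adjoin_singleton (ZMod p) (y - 1)) (one_mem (Algebra.adjoin (ZMod p) {y - 1}))
    rwa [sub_add_cancel] at h
  obtain ⟨i, hi, hT⟩ : ∃ i, eps q (ρ : F) ^ i = y - 1 ∧ (y - 1) + (y - 1) ^ q = (τ : F) - 2 := by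
    have hTx : (y - 1) + (y - 1) ^ q = (τ : F) - 2 := by
      rw [Unitary.sub_pow_q hF, one_pow]; linear_combination hyT
    suffices h : ∃ l : F, l ≠ 0 ∧ eps q l = y - 1 by
      obtain ⟨l, hl, hle⟩ := h
      obtain ⟨i, hi⟩ := hpow l hl
      exact ⟨i, hi.trans hle, hTx⟩
    by_cases hp2 : p = 2
    · haveI : CharP F 2 := hp2 ▸ inferInstance
      have hτ1 : (τ : F) = 1 := by simp [τ, hp2]
      have e1 : y - 1 = y ^ q := by
        rw [hτ1] at hyT
        rw [CharTwo.sub_eq_add]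
        linear_combination hyT - (CharTwo.two_eq_zero (R := F)) * (y ^ q - 1 + y) + (CharTwo.two_eq_zero (R := F)) * y
      refine ⟨(y * y ^ q) / (t * (R * R ^ q) * R), ?_, ?_⟩
      · exact div_ne_zero (mul_ne_zero hy0 (pow_ne_zero q hy0))
          (mul_ne_zero (mul_ne_zero ht0 (mul_ne_zero hR (pow_ne_zero q hR))) hR)
      · have hyq := pow_ne_zero q hy0
        have hden : t * (R * R ^ q) * R ≠ 0 :=
          mul_ne_zero (mul_ne_zero ht0 (mul_ne_zero hR (pow_ne_zero q hR))) hR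
        rw [e1]
        have : eps q ((y * y ^ q) / (t * (R * R ^ q) * R)) * y = y * y ^ q := by
          conv_lhs => arg 2; rw [hyE]
          rw [← eps_mul, div_mul_cancel₀ _ hden, eps, mul_pow y, Unitary.pow_q_pow_q hF]
          field_simp
        exact mul_right_cancel₀ hy0 (this.trans (mul_comm _ _))
    · have hτ2 : (τ : F) = 2 := by simp [τ, hp2]
      rw [hτ2, sub_self] at hTx
      refine ⟨-(y - 1), neg_ne_zero.mpr hy1, ?_⟩
      rw [eps, Unitary.neg_pow_q hF, show (y - 1) ^ q = -(y - 1) by linear_combination hTx, neg_neg]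
      field_simp
  refine ⟨i, j, τ - 1, ?_, by rw [hi, hj]; ring, by rw [hi]; exact hxadj⟩
  rw [hi, hj, Nat.cast_sub (show 1 ≤ τ by simp only [τ]; split_ifs <;> omega), Nat.cast_one]
  rw [Unitary.sub_pow_q hF, one_pow] at hT ⊢
  linear_combination -hyT

end Cfsg.Agent.KSG55.SU3
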