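import Cfsg.Agent.Lib.Unitary.Field

set_option autoImplicit false

/-!
The combinatorial core of the presentation of `SU₃`: a set of unipotent coordinates that is closed
under the moves coming from one crossing relation is everything.
-/

namespace Cfsg.Agent.KSG55.SU3

open Cfsg.Agent.Unitary

variable {F : Type*} [Field F] [Fintype F] {q : ℕ} (hF : Fintype.card F = q ^ 2)

/-- The moves. -/
structure Closed (q : ℕ) (δ : F) (S : F → F → Prop) : Prop where
  inv : ∀ a b, b + b ^ q + a * a ^ q = 0 → a ≠ 0 → S a b → S (-a) (b ^ q)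
  turn : ∀ a b, b + b ^ q + a * a ^ q = 0 → a ≠ 0 → S a b → S (a * δ / b) (-δ ^ 2 / b)
  comp : ∀ a b c, b + b ^ q + a * a ^ q = 0 → c + c ^ q + a * a ^ q = 0 → a ≠ 0 → b ≠ c →
    S a b → S a c → S (a * (c - b) / c) (b * (c - b) / c)
  scale : ∀ a b t, b + b ^ q + a * a ^ q = 0 → a ≠ 0 → t ^ q = t → t ≠ 0 → S a b → S (t * a) (t ^ 2 * b)

/-- A coordinate of a point off the centre is nonzero. -/
theorem snd_ne_zero {a b : F} (h : b + b ^ q + a * a ^ q = 0) (ha : a ≠ 0) (hq : q ≠ 0) : b ≠ 0 := by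
  rintro rfl
  rw [zero_pow hq, add_zero, zero_add] at h
  rcases mul_eq_zero.mp h with h | h
  · exact ha h
  · exact ha (eq_zero_of_pow_eq_zero h)

include hF in
theorem closed_all {δ : F} (hδ : δ ≠ 0) (hδt : δ ^ q = -δ) {S : F → F → Prop} (hS : Closed q δ S)
    {ρ : Fˣ} (hρ : ∀ x : Fˣ, x ∈ Submonoid.powers ρ) {a₀ b₀ : F} (h₀ : b₀ + b₀ ^ q + a₀ * a₀ ^ q = 0)
    (ha₀ : a₀ ≠ 0) (hb₀ : b₀ * δ = ρ) (hS₀ : S a₀ b₀) :
    ∀ a b, b + b ^ q + a * a ^ q = 0 → a ≠ 0 → S a b := by
  have hq : q ≠ 0 := (q_pos hF).ne'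
  have hδ2 : (δ ^ 2) ^ q = δ ^ 2 := by rw [← pow_mul, mul_comm, pow_mul, hδt, neg_sq]
  have hδ2' : δ ^ 2 ≠ 0 := pow_ne_zero 2 hδ
  have fmul : ∀ x y : F, x ^ q = x → y ^ q = y → (x * y) ^ q = x * y := fun x y hx hy => by
    rw [mul_pow, hx, hy]
  have fdiv : ∀ x y : F, x ^ q = x → y ^ q = y → (x / y) ^ q = x / y := fun x y hx hy => by
    rw [div_pow, hx, hy]
  have fneg : ∀ x : F, x ^ q = x → (-x) ^ q = -x := fun x hx => by rw [neg_pow_q hF, hx]
  have fnorm : ∀ x : F, (x * x ^ q) ^ q = x * x ^ q := fun x => by rw [mul_pow, pow_q_pow_q hF, mul_comm]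
  -- points with the same first coordinate and proportional second ones are equal
  have uniq : ∀ a b b' c : F, b + b ^ q + a * a ^ q = 0 → b' + b' ^ q + a * a ^ q = 0 → a ≠ 0 →
      c ^ q = c → b' = c * b → b' = b := by
    intro a b b' c h h' ha hc e
    have hN : a * a ^ q ≠ 0 := mul_ne_zero ha (pow_ne_zero q ha)
    have : (c - 1) * (a * a ^ q) = 0 := by
      subst e
      rw [mul_pow, hc] at h'
      linear_combination c * h - h'
    rw [e, sub_eq_zero.mp ((mul_eq_zero.mp this).resolve_right hN), one_mul]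
  have hvalI : ∀ a b : F, b + b ^ q + a * a ^ q = 0 → b ^ q + (b ^ q) ^ q + -a * (-a) ^ q = 0 := fun a b h => by
    rw [pow_q_pow_q hF, neg_pow_q hF]; linear_combination h
  have hvalN : ∀ a b : F, b + b ^ q + a * a ^ q = 0 → a ≠ 0 →
      -δ ^ 2 / b + (-δ ^ 2 / b) ^ q + a * δ / b * (a * δ / b) ^ q = 0 := fun a b h ha => by
    have hb := snd_ne_zero h ha hq
    have hbq : b ^ q ≠ 0 := pow_ne_zero q hb
    rw [div_pow, div_pow, neg_pow_q hF, hδ2, mul_pow, hδt]
    field_simp
    linear_combination -(δ ^ 2) * h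
  have hvalS : ∀ a b t : F, b + b ^ q + a * a ^ q = 0 → t ^ q = t →
      t ^ 2 * b + (t ^ 2 * b) ^ q + t * a * (t * a) ^ q = 0 := fun a b t h ht => by
    rw [mul_pow, mul_pow t a, ← pow_mul, mul_comm 2 q, pow_mul, ht]; linear_combination t ^ 2 * h
  let P : F → Prop := fun s => ∀ a b, b + b ^ q + a * a ^ q = 0 → a ≠ 0 → (b * δ / s) ^ q = b * δ / s → S a b
  have hgen : P ρ := by
    have step : ∀ j : ℕ, ∃ a b, b + b ^ q + a * a ^ q = 0 ∧ a ≠ 0 ∧ S a b ∧
        (b * δ / ρ) ^ q = b * δ / ρ ∧ (a * (ρ : F) ^ j / a₀) ^ q = a * (ρ : F) ^ j / a₀ := by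
      intro j
      induction j with
      | zero => exact ⟨a₀, b₀, h₀, ha₀, hS₀, by rw [hb₀, div_self ρ.ne_zero, one_pow],
          by rw [pow_zero, mul_one, div_self ha₀, one_pow]⟩
      | succ j ih =>
        obtain ⟨a, b, h, ha, hs, hf1, hf2⟩ := ih
        have hb := snd_ne_zero h ha hq
        have hna : a * δ / b ≠ 0 := div_ne_zero (mul_ne_zero ha hδ) hb
        refine ⟨-(a * δ / b), (-δ ^ 2 / b) ^ q, hvalI _ _ (hvalN a b h ha), neg_ne_zero.mpr hna,
          hS.inv _ _ (hvalN a b h ha) hna (hS.turn a b h ha hs), ?_, ?_⟩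
        · have hbd : b ^ q = -((b * δ / ρ) * (ρ : F) ^ q / δ) := by
            have : (b * δ) ^ q = b * δ / ρ * (ρ : F) ^ q := by
              conv_rhs => rw [← hf1]
              rw [← mul_pow, div_mul_cancel₀ _ ρ.ne_zero]
            rw [mul_pow, hδt] at this
            rw [← neg_div, eq_div_iff hδ]
            linear_combination -this
          have e : (-δ ^ 2 / b) ^ q * δ / ρ = δ ^ 2 * δ ^ 2 / (b * δ / ρ) / ((ρ : F) * (ρ : F) ^ q) := by
            rw [div_pow, neg_pow_q hF, hδ2, hbd]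
            field_simp
          rw [e]
          exact fdiv _ _ (fdiv _ _ (fmul _ _ hδ2 hδ2) hf1) (fnorm _)
        · have e : -(a * δ / b) * (ρ : F) ^ (j + 1) / a₀ = -(a * (ρ : F) ^ j / a₀ * (δ ^ 2 / (b * δ / ρ))) := by
            rw [pow_succ]; field_simp
          rw [e]
          exact fneg _ (fmul _ _ hf2 (fdiv _ _ hδ2 hf1))
    intro a b h ha hf
    obtain ⟨j, hj⟩ := hρ (Units.mk0 (a₀ / a) (div_ne_zero ha₀ ha))
    have hj' : (ρ : F) ^ j = a₀ / a := by simpa using congrArg Units.val hj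
    obtain ⟨a', b', h', ha', hs', hf1, hf2⟩ := step j
    rw [hj', show a' * (a₀ / a) / a₀ = a' / a by field_simp] at hf2
    have hb := snd_ne_zero h ha hq
    have hb' := snd_ne_zero h' ha' hq
    set t := (a' / a)⁻¹
    have ht : t ^ q = t := by rw [inv_pow, hf2]
    have hta : t * a' = a := by show (a' / a)⁻¹ * a' = a; field_simp
    have hs := hS.scale a' b' t h' ha' ht (inv_ne_zero (div_ne_zero ha' ha)) hs'
    have hv := hvalS a' b' t h' ht
    rw [hta] at hs hv
    rw [← uniq a b (t ^ 2 * b') (t ^ 2 * (b' * δ / ρ) / (b * δ / ρ)) h hv ha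
      (fdiv _ _ (fmul _ _ (by rw [← pow_mul, mul_comm, pow_mul, ht]) hf1) hf) (by field_simp)]
    exact hs
  have hsc : ∀ s f : F, P s → f ^ q = f → f ≠ 0 → P (s * f) := fun s f hP hf hf0 a b h ha hfx => by
    refine hP a b h ha ?_
    rw [show b * δ / s = b * δ / (s * f) * f by field_simp]
    exact fmul _ _ hfx hf
  have hinv : ∀ s : F, s ≠ 0 → P s → P s⁻¹ := by
    intro s hs0 hP a b h ha hf
    have h2 := hP (-a) (b ^ q) (hvalI a b h) (neg_ne_zero.mpr ha) (by
      have e : b ^ q * δ / s = -((b * δ / s⁻¹) ^ q) / (s * s ^ q) := by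
        rw [div_inv_eq_mul, mul_pow, mul_pow, hδt]
        field_simp
      rw [e, hf]
      exact fdiv _ _ (fneg _ hf) (fnorm s))
    have := hS.inv _ _ (hvalI a b h) (neg_ne_zero.mpr ha) h2
    rwa [neg_neg, pow_q_pow_q hF] at this
  have tr : ∀ s : F, s ≠ 0 → s ^ q ≠ s → s / δ + (s / δ) ^ q ≠ 0 := fun s hs hns e => hns (by
    rw [div_pow, hδt] at e
    field_simp at e
    linear_combination -e)
  have hcomp : ∀ s s' : F, s ≠ 0 → s' ≠ 0 → s ^ q ≠ s → s' ^ q ≠ s' → (s / s') ^ q ≠ s / s' →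
      P s → P s' → P (s / s') := by
    intro s s' hs hs' hns hns' hne hPs hPs' a₂ b₂ h₂ ha₂ hf₂
    set u := s / δ + (s / δ) ^ q with hu
    set u' := s' / δ + (s' / δ) ^ q with hu'
    have hu0 : u ≠ 0 := tr s hs hns
    have hu0' : u' ≠ 0 := tr s' hs' hns'
    have huf : u ^ q = u := by rw [hu, add_pow_q hF, pow_q_pow_q hF, add_comm]
    have huf' : u' ^ q = u' := by rw [hu', add_pow_q hF, pow_q_pow_q hF, add_comm]
    set m := 1 - s * u' / (s' * u) with hm
    have hm0 : m ≠ 0 := fun e => hne (by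
      rw [hm, sub_eq_zero, eq_comm, div_eq_one_iff_eq (mul_ne_zero hs' hu0)] at e
      rw [show s / s' = u / u' by field_simp; linear_combination e]
      exact fdiv _ _ huf huf')
    set a := a₂ / m
    have ha : a ≠ 0 := div_ne_zero ha₂ hm0
    set k := -(a * a ^ q) with hk
    have hkf : k ^ q = k := fneg _ (fnorm a)
    have hk0 : k ≠ 0 := neg_ne_zero.mpr (mul_ne_zero ha (pow_ne_zero q ha))
    set b := k / u * (s / δ) with hb
    set c := k / u' * (s' / δ) with hc
    have hvb : b + b ^ q + a * a ^ q = 0 := by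
      rw [hb, mul_pow, fdiv _ _ hkf huf, ← mul_add, ← hu, div_mul_cancel₀ _ hu0, hk]; ring
    have hvc : c + c ^ q + a * a ^ q = 0 := by
      rw [hc, mul_pow, fdiv _ _ hkf huf', ← mul_add, ← hu', div_mul_cancel₀ _ hu0', hk]; ring
    have hb0 : b ≠ 0 := snd_ne_zero hvb ha hq
    have hc0 : c ≠ 0 := snd_ne_zero hvc ha hq
    have hbc : (c - b) / c = m := by rw [hm, hb, hc]; field_simp
    have hbne : b ≠ c := fun e => hm0 (by rw [← hbc, e, sub_self, zero_div])
    have hfb : (b * δ / s) ^ q = b * δ / s := by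
      rw [show b * δ / s = k / u by rw [hb]; field_simp]; exact fdiv _ _ hkf huf
    have hfc : (c * δ / s') ^ q = c * δ / s' := by
      rw [show c * δ / s' = k / u' by rw [hc]; field_simp]; exact fdiv _ _ hkf huf'
    have hS' := hS.comp a b c hvb hvc ha hbne (hPs a b hvb ha hfb) (hPs' a c hvc ha hfc)
    have ea : a * (c - b) / c = a₂ := by rw [mul_div_assoc, hbc, div_mul_cancel₀ _ hm0]
    rw [ea] at hS'
    have hd : ((c - b) * δ) ^ q = (c - b) * δ := by
      have : (c - b) ^ q = -(c - b) := by rw [sub_pow_q hF]; linear_combination hvc - hvb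
      rw [mul_pow, this, hδt]; ring
    have hv : b * (c - b) / c + (b * (c - b) / c) ^ q + a₂ * a₂ ^ q = 0 := by
      have hd' : (c - b) ^ q = -(c - b) := by rw [sub_pow_q hF]; linear_combination hvc - hvb
      have e1 : b ^ q = -b - a * a ^ q := by linear_combination hvb
      have e2 : c ^ q = -c - a * a ^ q := by linear_combination hvc
      have hcq : -c - a * a ^ q ≠ 0 := e2 ▸ pow_ne_zero q hc0
      rw [← ea, div_pow, div_pow, mul_pow b (c - b) q, mul_pow a (c - b) q, hd', e1, e2]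
      field_simp
      ring
    have hb₂0 := snd_ne_zero h₂ ha₂ hq
    rw [← uniq a₂ b₂ (b * (c - b) / c) ((b * δ / s) * ((c - b) * δ) / (c * δ / s') / (b₂ * δ / (s / s'))) h₂ hv ha₂
      (fdiv _ _ (fdiv _ _ (fmul _ _ hfb hd) hfc) hf₂) (by field_simp)]
    exact hS'
  have hone : ∀ s : Fˣ, (s : F) ^ q = s ∨ P s := by
    let Q : Submonoid Fˣ :=
      { carrier := {s | (s : F) ^ q = s ∨ P s}
        one_mem' := Or.inl (by simp)
        mul_mem' := fun {x y} hx hy => by
          simp only [Set.mem_setOf_eq, Units.val_mul] at hx hy ⊢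
          rcases hx with hx | hx <;> rcases hy with hy | hy
          · exact Or.inl (fmul _ _ hx hy)
          · exact Or.inr (by rw [mul_comm]; exact hsc _ _ hy hx x.ne_zero)
          · exact Or.inr (hsc _ _ hx hy y.ne_zero)
          · by_cases hxy : ((x : F) * y) ^ q = x * y
            · exact Or.inl hxy
            by_cases hxf : (x : F) ^ q = x
            · exact Or.inr (by rw [mul_comm]; exact hsc _ _ hy hxf x.ne_zero)
            by_cases hyf : (y : F) ^ q = y
            · exact Or.inr (hsc _ _ hx hyf y.ne_zero)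
            refine Or.inr ?_
            have := hcomp x (y : F)⁻¹ x.ne_zero (inv_ne_zero y.ne_zero) hxf
              (fun e => hyf (by rw [inv_pow, inv_inj] at e; exact e))
              (by rwa [div_inv_eq_mul]) hx (hinv _ y.ne_zero hy)
            rwa [div_inv_eq_mul] at this }
    intro s
    have : Submonoid.powers ρ ≤ Q := Submonoid.powers_le.mpr (Or.inr hgen)
    exact this (hρ s)
  intro a b h ha
  have hb := snd_ne_zero h ha hq
  have hbd : b * δ ≠ 0 := mul_ne_zero hb hδ
  rcases hone (Units.mk0 _ hbd) with e | hP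
  · exfalso
    have e' : (b * δ) ^ q = b * δ := e
    rw [mul_pow, hδt] at e'
    have : b + b ^ q = 0 := by
      have h2 : (b + b ^ q) * δ = 0 := by linear_combination -e'
      exact (mul_eq_zero.mp h2).resolve_right hδ
    rw [this, zero_add] at h
    exact mul_ne_zero ha (pow_ne_zero q ha) h
  · exact hP a b h ha (by rw [Units.val_mk0, div_self hbd, one_pow])

end Cfsg.Agent.KSG55.SU3
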