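import Cfsg.Agent.KSG55.SU3.Model
import Cfsg.Agent.KSG55.Lin.Orbit

set_option autoImplicit false

/-! First coordinates of unipotent words. -/

namespace Cfsg.Agent.KSG55.SU3

open Polynomial Cfsg.Agent.LinearGroup.SUThree Cfsg.Agent.KSG55.Lin

variable {F : Type*} [Field F] [Fintype F] {q : ℕ} (hF : Fintype.card F = q ^ 2)

/-- The element is unipotent with first coordinate `a`. -/
def Coord (X : jGroup hF) (a : F) : Prop := ∃ (b : F) (h : Cond q a b), X = jU hF h

theorem coord_jU {a b : F} (h : Cond q a b) : Coord hF (jU hF h) a := ⟨b, h, rfl⟩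

variable {hF}

theorem Coord.mul {X Y : jGroup hF} {a c : F} (hX : Coord hF X a) (hY : Coord hF Y c) :
    Coord hF (X * Y) (a + c) := by
  obtain ⟨b, h, rfl⟩ := hX
  obtain ⟨d, h', rfl⟩ := hY
  rw [jU_mul hF h h']
  exact coord_jU hF _

theorem Coord.inv {X : jGroup hF} {a : F} (hX : Coord hF X a) : Coord hF X⁻¹ (-a) := by
  obtain ⟨b, h, rfl⟩ := hX
  rw [jU_inv hF h]
  exact coord_jU hF _

theorem coord_one : Coord hF 1 0 := by
  have h : Cond q (0 : F) 0 := by simp [Cond, Unitary.zero_pow_q hF]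
  exact ⟨0, h, mat_inj hF (by simp [mat_one, mat_jU, Unitary.zero_pow_q hF, Matrix.one_fin_three])⟩

theorem Coord.pow {X : jGroup hF} {a : F} (hX : Coord hF X a) (n : ℕ) : Coord hF (X ^ n) (n * a) := by
  induction n with
  | zero => rw [pow_zero, Nat.cast_zero, zero_mul]; exact coord_one
  | succ n ih => rw [pow_succ, Nat.cast_succ, add_mul, one_mul]; exact ih.mul hX

theorem Coord.orb {X : jGroup hF} {a : F} (hX : Coord hF X a) (l : Fˣ) (k : ℕ) :
    Coord hF (Lin.orb (hM hF l) X k) (eps q (l : F) ^ k * a) := by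
  induction k with
  | zero => rwa [orb_zero, pow_zero, one_mul]
  | succ k ih =>
    obtain ⟨b, h, e⟩ := ih
    rw [← orb_succ, e, hM_conj]
    have ha : eps q (l : F) * (eps q (l : F) ^ k * a) = eps q (l : F) ^ (k + 1) * a := by rw [pow_succ']; ring
    exact ha ▸ coord_jU hF (cond_scale hF h l)

theorem Coord.polyWord {p : ℕ} [Fact p.Prime] [Algebra (ZMod p) F] {X : jGroup hF} {a : F}
    (hX : Coord hF X a) (l : Fˣ) (P : (ZMod p)[X]) :
    Coord hF (Lin.polyWord (hM hF l) X P) (aeval (eps q (l : F)) P * a) := by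
  have key : ∀ n : ℕ, Coord hF ((List.range n).map fun i => Lin.orb (hM hF l) X i ^ (P.coeff i).val).prod
      ((∑ i ∈ Finset.range n, P.coeff i • eps q (l : F) ^ i) * a) := fun n => by
    induction n with
    | zero => simpa using coord_one
    | succ n ih =>
      rw [List.range_succ, List.map_append, List.prod_append, List.map_singleton, List.prod_singleton,
        Finset.sum_range_succ, add_mul]
      refine ih.mul ?_
      rw [Algebra.smul_def, ← ZMod.natCast_zmod_val (P.coeff n), map_natCast, ZMod.natCast_zmod_val, mul_assoc]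
      exact (hX.orb l n).pow _
  rw [aeval_eq_sum_range]
  exact key _

theorem cond_zero_iff {b : F} : Cond q (0 : F) b ↔ b ^ q = -b := by
  rw [Cond, zero_mul, add_zero, add_eq_zero_iff_neg_eq, eq_comm]

theorem Coord.central {X : jGroup hF} (hX : Coord hF X 0) {δ : F} (hδ : δ ≠ 0) (hδt : δ ^ q = -δ) :
    ∃ t : fixK hF, kM hF hδ hδt (mU t) = X := by
  obtain ⟨b, h, rfl⟩ := hX
  refine ⟨⟨b / δ, (mem_fixK hF).mpr (by rw [div_pow, cond_zero_iff.mp h, hδt, neg_div_neg_eq])⟩, ?_⟩
  rw [kM_mU]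
  exact jU_congr hF _ _ rfl (by rw [mul_div_cancel₀ _ hδ])

theorem jU_inj {a b c d : F} {h : Cond q a b} {h' : Cond q c d} (e : jU hF h = jU hF h') : a = c ∧ b = d :=
  ⟨congrFun (congrFun (congrArg (mat hF) e) 0) 1, congrFun (congrFun (congrArg (mat hF) e) 0) 2⟩

end Cfsg.Agent.KSG55.SU3
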