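import Cfsg.Agent.KSG55.SU3.Comb
import Cfsg.Agent.KSG55.SU3.Borel
import Cfsg.Agent.KSG55.SU3.Choice
import Cfsg.Agent.KSG55.SU3.Coord

set_option autoImplicit false

/-! A group with the relations maps injectively onto `SU₃`. -/

namespace Cfsg.Agent.KSG55.SU3

open Polynomial Cfsg.Agent.LinearGroup.SUThree Cfsg.Agent.KSG55.Lin
open Matrix (SpecialLinearGroup)

variable {F : Type*} [Field F] [Fintype F] {q : ℕ} {hF : Fintype.card F = q ^ 2}
  {δ : F} {hδ : δ ≠ 0} {hδt : δ ^ q = -δ} {ρ : Fˣ}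

/-- Elements with the relations, over the model. -/
structure Setup (H : Type*) [Group H] (hF : Fintype.card F = q ^ 2) (hδ : δ ≠ 0) (hδt : δ ^ q = -δ) (ρ : Fˣ) where
  κ : SpecialLinearGroup (Fin 2) (fixK hF) →* H
  hh : H
  v : H
  φ : H →* jGroup hF
  φκ : ∀ M, φ (κ M) = kM hF hδ hδt M
  φh : φ hh = hM hF ρ
  φv : Coord hF (φ v) 1
  gen : ∀ x : Fˣ, x ∈ Submonoid.powers ρ
  R1 : hh ^ (q + 1) = κ (mH (normU hF ρ))
  R2 : κ mT * hh * (κ mT)⁻¹ = (hh ^ q)⁻¹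
  z1 : hh * κ (mU 1) * hh⁻¹ = κ (mU (normU hF ρ : fixK hF))

namespace Setup

variable {H : Type*} [Group H] (S : Setup H hF hδ hδt ρ)

include S in
theorem one_lt : 1 < q := by have := Unitary.two_le_q hF; omega

theorem hh_order : S.hh ^ (q ^ 2 - 1) = 1 := by
  have hq := S.one_lt
  rw [show q ^ 2 - 1 = (q + 1) * (q - 1) by rw [← Nat.sq_sub_sq, one_pow], pow_mul, S.R1, ← map_pow, mH_pow]
  have : normU hF ρ ^ (q - 1) = 1 := by
    rw [show q - 1 = Nat.card (fixK hF)ˣ by rw [Nat.card_units, card_fixK]]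
    exact pow_card_eq_one'
  rw [this, show mH (1 : (fixK hF)ˣ) = (1 : SpecialLinearGroup (Fin 2) (fixK hF)) from mHHom.map_one, map_one]

theorem base : Base S.κ S.hh (normU hF ρ) := by
  refine ⟨normU_gen hF S.gen, S.z1, ?_, q ^ 2 - 1, ?_, S.hh_order⟩
  · rw [← S.R1]; exact Commute.self_pow _ _
  · have := S.one_lt
    have : 2 * 2 ≤ q ^ 2 := by rw [sq]; exact Nat.mul_le_mul (by omega) (by omega)
    omega

theorem hh_periodic (k : ℤ) : ∃ n : ℕ, S.hh ^ n = S.hh ^ k := by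
  have hq := S.one_lt
  have hN : 0 < q ^ 2 - 1 := by
    have : 2 * 2 ≤ q ^ 2 := by rw [sq]; exact Nat.mul_le_mul (by omega) (by omega)
    omega
  refine ⟨(k % ((q ^ 2 - 1 : ℕ) : ℤ)).toNat, ?_⟩
  rw [← zpow_natCast, Int.toNat_of_nonneg (Int.emod_nonneg _ (by omega))]
  exact (zpow_eq_zpow_emod' k S.hh_order).symm

/-- The image of the torus element. -/
theorem φ_hh_pow (n : ℕ) : S.φ (S.hh ^ n) = hM hF (ρ ^ n) := by rw [map_pow, S.φh, map_pow]

/-- The radical. -/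
def U : Subgroup H := Ug S.κ S.hh S.v

theorem v_mem : S.v ∈ S.U := Subgroup.mem_sup_left (by simpa [orb_zero] using mem_orbGroup S.hh S.v 0)

theorem z_mem (t : fixK hF) : S.κ (mU t) ∈ S.U := Subgroup.mem_sup_right (mem_Zr.mpr ⟨t, rfl⟩)

theorem U_coord {g : H} (hg : g ∈ S.U) : ∃ a, Coord hF (S.φ g) a := by
  let A : Subgroup H :=
    { carrier := {g | ∃ a, Coord hF (S.φ g) a}
      one_mem' := ⟨0, by rw [map_one]; exact coord_one⟩
      mul_mem' := fun {x y} ⟨a, hx⟩ ⟨b, hy⟩ => ⟨a + b, by rw [map_mul]; exact hx.mul hy⟩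
      inv_mem' := fun {x} ⟨a, hx⟩ => ⟨-a, by rw [map_inv]; exact hx.inv⟩ }
  refine (show S.U ≤ A from sup_le ?_ ?_) hg
  · rw [orbGroup, Subgroup.closure_le]
    rintro _ ⟨l, rfl⟩
    exact ⟨_, by rw [map_orb, S.φh]; exact S.φv.orb ρ l⟩
  · intro x hx
    obtain ⟨t, rfl⟩ := mem_Zr.mp hx
    exact ⟨0, by rw [S.φκ, kM_mU]; exact coord_jU hF _⟩

theorem U_conj (k : ℤ) {g : H} (hg : g ∈ S.U) : S.hh ^ k * g * (S.hh ^ k)⁻¹ ∈ S.U := by
  have := S.one_lt
  have hN : 0 < q ^ 2 - 1 := by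
    have : 2 * 2 ≤ q ^ 2 := by rw [sq]; exact Nat.mul_le_mul (by omega) (by omega)
    omega
  exact zpow_conj_mem hN S.hh_order (fun x hx => Ug_conj S.base hx) k hg

theorem U_onto (hq : q ≠ 2) {a b : F} (h : Cond q a b) : ∃ g ∈ S.U, S.φ g = jU hF h := by
  obtain ⟨p, hchar⟩ := CharP.exists F
  haveI := hchar
  haveI : Fact p.Prime := ⟨CharP.char_is_prime F p⟩
  letI := ZMod.algebra F p
  obtain ⟨P, hP⟩ := exists_aeval (adjoin_eps hF S.gen (p := p) hq) a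
  set g := Lin.polyWord S.hh S.v P with hg
  have hgU : g ∈ S.U := Subgroup.mem_sup_left (Subgroup.list_prod_mem _ fun x hx => by
    obtain ⟨l, -, rfl⟩ := List.mem_map.mp hx
    exact pow_mem (mem_orbGroup _ _ _) _)
  have hc : Coord hF (S.φ g) a := by
    rw [hg, map_polyWord, S.φh, ← mul_one a, ← hP]
    exact S.φv.polyWord ρ P
  have h0 : Coord hF ((S.φ g)⁻¹ * jU hF h) 0 := by simpa using hc.inv.mul (coord_jU hF h)
  obtain ⟨t, ht⟩ := h0.central hδ hδt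
  exact ⟨g * S.κ (mU t), mul_mem hgU (S.z_mem t), by rw [map_mul, S.φκ, ht, mul_inv_cancel_left]⟩

theorem U_inj (hq : q ≠ 2) (hfin : (S.U : Set H).Finite) (hcard : Nat.card S.U ≤ q ^ 3) :
    ∀ g ∈ S.U, S.φ g = 1 → g = 1 := by
  haveI : Finite S.U := hfin.to_subtype
  set T := {x : jGroup hF // ∃ a, Coord hF x a}
  let f : S.U → T := fun g => ⟨S.φ g, S.U_coord g.2⟩
  have hsurj : Function.Surjective f := by
    rintro ⟨x, a, b, h, rfl⟩
    obtain ⟨g, hg, e⟩ := S.U_onto hq h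
    exact ⟨⟨g, hg⟩, Subtype.ext e⟩
  have hT : q ^ 3 ≤ Nat.card T := by
    have hex : ∀ a : F, ∃ b, Cond q a b := fun a => by
      obtain ⟨b, hb⟩ := Unitary.exists_trace_eq hF (t := -(a * a ^ q))
        (by rw [Unitary.neg_pow_q hF, mul_pow, Unitary.pow_q_pow_q hF, mul_comm])
      exact ⟨b, by unfold Cond; rw [hb]; ring⟩
    choose bb hbb using hex
    have hb : ∀ (a : F) (t : fixK hF), Cond q a (bb a + δ * t) := fun a t => by
      have := hbb a
      unfold Cond at *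
      rw [Unitary.add_pow_q hF, mul_pow, hδt, fixK_pow]
      linear_combination this
    let g : F × fixK hF → T := fun x => ⟨jU hF (hb x.1 x.2), x.1, coord_jU hF _⟩
    have hg : Function.Injective g := by
      rintro ⟨a, t⟩ ⟨a', t'⟩ e
      obtain ⟨e1, e2⟩ := jU_inj (h := hb a t) (h' := hb a' t') (congrArg Subtype.val e)
      subst e1
      exact Prod.ext rfl (Subtype.ext (mul_left_cancel₀ hδ (add_left_cancel e2)))
    calc q ^ 3 = Nat.card (F × fixK hF) := by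
          rw [Nat.card_prod, card_fixK, Nat.card_eq_fintype_card, hF, ← pow_succ]
      _ ≤ Nat.card T := Nat.card_le_card_of_injective g hg
  have hinj : Function.Injective f :=
    ((Nat.bijective_iff_surjective_and_card _).mpr
      ⟨hsurj, le_antisymm (hcard.trans hT) (Nat.card_le_card_of_surjective _ hsurj)⟩).1
  intro g hg e
  have := @hinj ⟨g, hg⟩ 1 (Subtype.ext (by simpa [f] using e))
  exact congrArg Subtype.val this

/-- The big cell. -/
def Cell (g : H) : Prop := ∃ x ∈ S.U, ∃ k : ℤ, ∃ y ∈ S.U, g = x * S.hh ^ k * S.κ mT * y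

/-- Crossing lands in the big cell. -/
def Good (g : H) : Prop := S.Cell ((S.κ mT)⁻¹ * g * S.κ mT)

theorem w_sq : ∃ n : ℕ, S.κ mT * S.κ mT = S.hh ^ n := by
  obtain ⟨s, hs⟩ := normU_gen hF S.gen (-1)
  have hs' : normU hF ρ ^ s = -1 := hs
  refine ⟨(q + 1) * s, ?_⟩
  rw [← map_mul, mT_sq, ← hs', ← mH_pow, map_pow, ← S.R1, pow_mul]

theorem w_pow (k : ℤ) : S.κ mT * S.hh ^ k = S.hh ^ (-(q : ℤ) * k) * S.κ mT := by
  have e := congrArg (· ^ k) S.R2
  simp only [conj_zpow] at e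
  rw [zpow_mul, zpow_neg, zpow_natCast, ← e]
  group

theorem cell_left {x g : H} (hx : x ∈ S.U) (hg : S.Cell g) : S.Cell (x * g) := by
  obtain ⟨a, ha, k, b, hb, rfl⟩ := hg
  exact ⟨x * a, mul_mem hx ha, k, b, hb, by group⟩

theorem cell_right {y g : H} (hg : S.Cell g) (hy : y ∈ S.U) : S.Cell (g * y) := by
  obtain ⟨a, ha, k, b, hb, rfl⟩ := hg
  exact ⟨a, ha, k, b * y, mul_mem hb hy, by group⟩

theorem cell_hleft (m : ℤ) {g : H} (hg : S.Cell g) : S.Cell (S.hh ^ m * g) := by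
  obtain ⟨a, ha, k, b, hb, rfl⟩ := hg
  exact ⟨_, S.U_conj m ha, m + k, b, hb, by group⟩

theorem cell_hright {g : H} (hg : S.Cell g) (m : ℤ) : S.Cell (g * S.hh ^ m) := by
  obtain ⟨a, ha, k, b, hb, rfl⟩ := hg
  refine ⟨a, ha, k + -(q : ℤ) * m, _, S.U_conj (-m) hb, ?_⟩
  calc a * S.hh ^ k * S.κ mT * b * S.hh ^ m
      = a * S.hh ^ k * (S.κ mT * S.hh ^ m) * (S.hh ^ (-m) * b * (S.hh ^ (-m))⁻¹) := by group
    _ = _ := by rw [S.w_pow, zpow_add]; group

theorem w_inv : ∃ n : ℤ, (S.κ mT)⁻¹ = S.hh ^ n * S.κ mT := by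
  obtain ⟨n, hn⟩ := S.w_sq
  refine ⟨-(n : ℤ), inv_eq_of_mul_eq_one_left ?_⟩
  rw [mul_assoc, hn, ← zpow_natCast, ← zpow_add, neg_add_cancel, zpow_zero]

theorem cell_inv {g : H} (hg : S.Cell g) : S.Cell g⁻¹ := by
  obtain ⟨a, ha, k, b, hb, rfl⟩ := hg
  obtain ⟨n, hn⟩ := S.w_inv
  rw [show (a * S.hh ^ k * S.κ mT * b)⁻¹ = b⁻¹ * ((S.κ mT)⁻¹ * S.hh ^ (-k)) * a⁻¹ by group]
  refine S.cell_right (S.cell_left (inv_mem hb) (S.cell_hright ?_ (-k))) (inv_mem ha)
  rw [hn]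
  exact ⟨1, one_mem _, n, 1, one_mem _, by group⟩

theorem good_inv {g : H} (hg : S.Good g) : S.Good g⁻¹ := by
  have := S.cell_inv hg
  rwa [show ((S.κ mT)⁻¹ * g * S.κ mT)⁻¹ = (S.κ mT)⁻¹ * g⁻¹ * S.κ mT by group] at this

theorem w_inv_pow (k : ℤ) : (S.κ mT)⁻¹ * S.hh ^ k = S.hh ^ (-(q : ℤ) * k) * (S.κ mT)⁻¹ := by
  obtain ⟨n, hn⟩ := S.w_inv
  rw [hn, mul_assoc, S.w_pow]
  group

theorem good_conj (k : ℤ) {g : H} (hg : S.Good g) : S.Good (S.hh ^ k * g * (S.hh ^ k)⁻¹) := by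
  have := S.cell_hright (S.cell_hleft (-(q : ℤ) * k) hg) (-(-(q : ℤ) * k))
  unfold Good
  rw [show (S.κ mT)⁻¹ * (S.hh ^ k * g * (S.hh ^ k)⁻¹) * S.κ mT =
    ((S.κ mT)⁻¹ * S.hh ^ k) * g * ((S.κ mT)⁻¹ * S.hh ^ k)⁻¹ by group, S.w_inv_pow]
  rwa [show S.hh ^ (-(q : ℤ) * k) * ((S.κ mT)⁻¹ * g * S.κ mT) * S.hh ^ (-(-(q : ℤ) * k)) =
    S.hh ^ (-(q : ℤ) * k) * (S.κ mT)⁻¹ * g * (S.hh ^ (-(q : ℤ) * k) * (S.κ mT)⁻¹)⁻¹ by group] at this

theorem good_of_wgw {g : H} (hg : S.Cell (S.κ mT * g * (S.κ mT)⁻¹)) : S.Good g := by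
  obtain ⟨n, hn⟩ := S.w_sq
  have := S.cell_hright (S.cell_hleft (-(n : ℤ)) hg) (n : ℤ)
  rw [zpow_neg, zpow_natCast, ← hn] at this
  unfold Good
  rwa [show (S.κ mT * S.κ mT)⁻¹ * (S.κ mT * g * (S.κ mT)⁻¹) * (S.κ mT * S.κ mT) =
    (S.κ mT)⁻¹ * g * S.κ mT by group] at this

/-- The image of a cell. -/
theorem φ_cell {x y : H} (hx : x ∈ S.U) (k : ℤ) (hy : y ∈ S.U) :
    ∃ (a b c d : F) (h : Cond q a b) (h' : Cond q c d) (l : Fˣ),
      S.φ x = jU hF h ∧ S.φ y = jU hF h' ∧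
      S.φ (x * S.hh ^ k * S.κ mT * y) = jU hF h * hM hF l * wM hF hδ hδt * jU hF h' := by
  obtain ⟨a, b, h, ex⟩ := S.U_coord hx
  obtain ⟨c, d, h', ey⟩ := S.U_coord hy
  obtain ⟨n, hn⟩ := S.hh_periodic k
  refine ⟨a, b, c, d, h, h', ρ ^ n, ex, ey, ?_⟩
  rw [← hn, map_mul, map_mul, map_mul, ex, ey, S.φ_hh_pow, S.φκ]
  rfl

theorem central_good {t : fixK hF} (ht : t ≠ 0) :
    ∃ (m : ℤ), (S.κ mT)⁻¹ * S.κ (mU t) * S.κ mT = S.κ (mU (-t⁻¹)) * S.hh ^ m * S.κ mT * S.κ (mU (-t⁻¹)) := by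
  have hc : mT⁻¹ * mU t * mT = mT * mU t * (mT : SpecialLinearGroup (Fin 2) (fixK hF))⁻¹ := by
    have hcen : ∀ g : SpecialLinearGroup (Fin 2) (fixK hF), (mT * mT) * g = g * (mT * mT) := fun g => by
      rw [mT_sq]
      apply Subtype.ext
      rw [Matrix.SpecialLinearGroup.coe_mul, Matrix.SpecialLinearGroup.coe_mul, mH_coe]
      ext i j
      fin_cases i <;> fin_cases j <;> simp [Matrix.mul_apply, Fin.sum_univ_two]
    rw [eq_mul_inv_iff_mul_eq, mul_assoc, mul_assoc, ← hcen, ← mul_assoc, ← mul_assoc]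
    group
  obtain ⟨s, hs⟩ := normU_gen hF S.gen (Units.mk0 t ht)⁻¹
  have hs' : normU hF ρ ^ s = (Units.mk0 t ht)⁻¹ := hs
  refine ⟨((q + 1) * s : ℕ), ?_⟩
  rw [zpow_natCast, pow_mul, S.R1, ← map_pow, mH_pow, hs', ← map_inv, ← map_mul, ← map_mul, hc, mT_mU ht, map_mul,
    map_mul, map_mul]

/-- The kernel is trivial. -/
theorem inj (hq : q ≠ 2) (hfin : (S.U : Set H).Finite) (hcard : Nat.card S.U ≤ q ^ 3)
    (hgen : Subgroup.closure (Set.range S.κ ∪ {S.hh, S.v}) = ⊤)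
    (hcross : ∃ g ∈ S.U, ∃ (a b : F) (h : Cond q a b), S.φ g = jU hF h ∧ a ≠ 0 ∧ b * δ = ρ ∧ S.Good g) :
    ∀ x, S.φ x = 1 → x = 1 := by
  have hinj := S.U_inj hq hfin hcard
  have huniq : ∀ g ∈ S.U, ∀ g' ∈ S.U, S.φ g = S.φ g' → g = g' := fun g hg g' hg' e =>
    mul_inv_eq_one.mp (hinj _ (mul_mem hg (inv_mem hg')) (by rw [map_mul, map_inv, e, mul_inv_cancel]))
  have hS : ∀ a b, ∀ h : Cond q a b, a ≠ 0 → ∀ g ∈ S.U, S.φ g = jU hF h → S.Good g := by
    obtain ⟨g₀, hg₀, a₀, b₀, h₀, e₀, ha₀, hb₀, hG₀⟩ := hcross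
    let P : F → F → Prop := fun a b => ∀ h : Cond q a b, ∀ g ∈ S.U, S.φ g = jU hF h → S.Good g
    have turn : ∀ a b, ∀ h : Cond q a b, ∀ g ∈ S.U, S.φ g = jU hF h → S.Good g →
        ∃ x ∈ S.U, ∃ k : ℤ, ∃ y ∈ S.U, ∃ h' : Cond q (-(a * δ) / b) (-δ ^ 2 / b),
          S.φ y = jU hF h' ∧ (S.κ mT)⁻¹ * g * S.κ mT = x * S.hh ^ k * S.κ mT * y ∧ S.Good y := by
      intro a b h g hg e hG
      obtain ⟨x, hx, k, y, hy, he⟩ := hG
      obtain ⟨c, d, e', f, h1, h2, l, ex, ey, exy⟩ := S.φ_cell hx k hy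
      obtain ⟨e1, e2⟩ := cross_right hF hδ hδt h h1 h2 l (by
        rw [← exy, ← he, map_mul, map_mul, map_inv, e, S.φκ]; rfl)
      refine ⟨x, hx, k, y, hy, e1 ▸ e2 ▸ h2, ey.trans (jU_congr hF _ _ e1 e2), he, S.good_of_wgw ?_⟩
      rw [show S.κ mT * y * (S.κ mT)⁻¹ = S.hh ^ (-k) * (x⁻¹ * ((S.κ mT)⁻¹ * g)) by
        rw [show (S.κ mT)⁻¹ * g = x * S.hh ^ k * S.κ mT * y * (S.κ mT)⁻¹ by rw [← he]; group]; group]
      refine S.cell_hleft _ (S.cell_left (inv_mem hx) (S.cell_right ?_ hg))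
      obtain ⟨n, hn⟩ := S.w_inv
      exact ⟨1, one_mem _, n, 1, one_mem _, by rw [hn]; group⟩
    have negc : ∀ a b, Cond q a b → ∀ t : F, t ^ q = t → Cond q (t * a) (t ^ 2 * b) := fun a b h t ht => by
      unfold Cond at *
      rw [mul_pow, mul_pow t a, ← pow_mul, mul_comm 2 q, pow_mul, ht]
      linear_combination t ^ 2 * h
    have scale : ∀ a b t, ∀ _ : Cond q a b, t ^ q = t → t ≠ 0 → P a b → P (t * a) (t ^ 2 * b) := by
      intro a b t h ht ht0 hP h' g hg e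
      obtain ⟨s, hs⟩ := normU_gen hF S.gen (Units.mk0 ⟨t, (mem_fixK hF).mpr ht⟩ fun c => ht0 (congrArg Subtype.val c))
      have hs' : normU hF ρ ^ s = Units.mk0 ⟨t, (mem_fixK hF).mpr ht⟩ _ := hs
      set m : ℕ := (q + 1) * s
      obtain ⟨g', hg', e'⟩ := S.U_onto hq h
      have hl : hM hF (ρ ^ m) = hM hF (Units.mk0 t ht0) := by
        congr 1
        rw [pow_mul, ← liftU_normU hF, liftU, ← map_pow, hs']
        exact Units.ext rfl
      have : g = S.hh ^ (m : ℤ) * g' * (S.hh ^ (m : ℤ))⁻¹ := by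
        refine huniq g hg _ (S.U_conj _ hg') ?_
        rw [e, zpow_natCast, map_mul, map_mul, map_inv, S.φ_hh_pow, e', hl, hM_conj]
        refine jU_congr hF _ _ ?_ ?_
        · simp [eps, ht, ht0]
        · simp [ht, sq]
      rw [this]
      exact S.good_conj _ (hP h g' hg' e')
    have hclosed : Closed q δ P := by
      refine ⟨fun a b h ha hP h' g hg e => ?_, fun a b h ha hP h' g hg e => ?_,
        fun a b c hb hc ha hne hPb hPc h' g hg e => ?_, fun a b t h ha ht ht0 hP => scale a b t h ht ht0 hP⟩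
      · have := S.good_inv (hP h g⁻¹ (inv_mem hg) (by
          rw [map_inv, e, jU_inv hF h']
          exact jU_congr hF _ _ (neg_neg a) (Unitary.pow_q_pow_q hF b)))
        rwa [inv_inv] at this
      · obtain ⟨g', hg', e'⟩ := S.U_onto hq h
        obtain ⟨x, -, k, y, hy, h1, ey, -, hGy⟩ := turn a b h g' hg' e' (hP h g' hg' e')
        have hy' : P (-(a * δ) / b) (-δ ^ 2 / b) := fun _ z hz ez => huniq y hy z hz (ey.trans ez.symm) ▸ hGy
        have := scale _ _ (-1) h1 (by rw [Unitary.neg_pow_q hF, one_pow]) (neg_ne_zero.mpr one_ne_zero) hy'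
        rw [show (-1 : F) * (-(a * δ) / b) = a * δ / b by ring, neg_one_sq, one_mul] at this
        exact this h' g hg e
      · have hb0 : b ≠ 0 := snd_ne_zero hb ha (Unitary.q_pos hF).ne'
        have hc0 : c ≠ 0 := snd_ne_zero hc ha (Unitary.q_pos hF).ne'
        have hcb : c - b ≠ 0 := sub_ne_zero.mpr (Ne.symm hne)
        obtain ⟨g₁, hg₁, e₁⟩ := S.U_onto hq hb
        let ζ : fixK hF := ⟨(c - b) / δ, (mem_fixK hF).mpr (by
          rw [div_pow, hδt, show (c - b) ^ q = -(c - b) by rw [Unitary.sub_pow_q hF]; linear_combination hc - hb,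
            neg_div_neg_eq])⟩
        have hζ : ζ ≠ 0 := fun e => hcb (by
          have := congrArg Subtype.val e
          simpa [ζ, hδ] using this)
        have e₂ : S.φ (g₁ * S.κ (mU ζ)) = jU hF hc := by
          rw [map_mul, e₁, S.φκ, kM_mU]
          refine (jU_mul hF hb _).trans (jU_congr hF _ _ (add_zero a) ?_)
          simp [ζ, Unitary.zero_pow_q hF]
          field_simp
          ring
        have hG₂ := hPc hc _ (mul_mem hg₁ (S.z_mem ζ)) e₂
        obtain ⟨x, hx, k, y, hy, h1, ey, he, -⟩ := turn a b hb g₁ hg₁ e₁ (hPb hb g₁ hg₁ e₁)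
        obtain ⟨m, hm⟩ := S.central_good hζ
        set z' := S.κ (mU (-ζ⁻¹))
        have hz' : z' ∈ S.U := S.z_mem _
        set u := y * z'
        have hu : u ∈ S.U := mul_mem hy hz'
        have hprod : (S.κ mT)⁻¹ * (g₁ * S.κ (mU ζ)) * S.κ mT =
            x * S.hh ^ k * (S.κ mT * u * S.hh ^ m * S.κ mT) * z' := by
          rw [show (S.κ mT)⁻¹ * (g₁ * S.κ (mU ζ)) * S.κ mT =
            ((S.κ mT)⁻¹ * g₁ * S.κ mT) * ((S.κ mT)⁻¹ * S.κ (mU ζ) * S.κ mT) by group, he, hm]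
          simp only [u, z']
          group
        have hcell : S.Cell (S.κ mT * u * S.κ mT) := by
          unfold Good at hG₂
          rw [hprod] at hG₂
          have h2 := S.cell_right (S.cell_hleft (-k) (S.cell_left (inv_mem hx) hG₂)) (inv_mem hz')
          rw [show S.hh ^ (-k) * (x⁻¹ * (x * S.hh ^ k * (S.κ mT * u * S.hh ^ m * S.κ mT) * z')) * z'⁻¹ =
            S.κ mT * u * (S.hh ^ m * S.κ mT) by group] at h2
          -- move the torus element to the right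
          obtain ⟨j, hj⟩ : ∃ j : ℤ, S.hh ^ m * S.κ mT = S.κ mT * S.hh ^ j := ⟨-(q : ℤ) * m, by
            obtain ⟨n, hn⟩ := S.w_inv
            have h3 := S.w_inv_pow m
            rw [inv_mul_eq_iff_eq_mul, ← mul_assoc, eq_mul_inv_iff_mul_eq] at h3
            exact h3⟩
          rw [hj, ← mul_assoc] at h2
          have h4 := S.cell_hright h2 (-j)
          rwa [mul_assoc, ← zpow_add, add_neg_cancel, zpow_zero, mul_one] at h4
        have hGu : S.Good u := by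
          obtain ⟨n, hn⟩ := S.w_sq
          have := S.cell_hleft (-(n : ℤ)) hcell
          rwa [zpow_neg, zpow_natCast, ← hn, show (S.κ mT * S.κ mT)⁻¹ * (S.κ mT * u * S.κ mT) =
            (S.κ mT)⁻¹ * u * S.κ mT by group] at this
        have hne' : 1 / b + 1 / (c - b) ≠ 0 := by
          intro h0
          field_simp at h0
          exact hc0 (by linear_combination h0)
        have hu2 : Cond q (-(a * δ) / b) (-δ ^ 2 * (1 / b + 1 / (c - b))) ∧
            ∀ h2, S.φ u = jU (hF := hF) (a := -(a * δ) / b) (b := -δ ^ 2 * (1 / b + 1 / (c - b))) h2 := by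
          have hw : Cond q (0 : F) (δ * (((-ζ⁻¹ : fixK hF)) : F)) := cond_central hδt (fixK_pow hF _)
          have hsum := cond_add hF h1 hw
          have eb : -δ ^ 2 / b + δ * (((-ζ⁻¹ : fixK hF)) : F) - -(a * δ) / b * (0 : F) ^ q =
              -δ ^ 2 * (1 / b + 1 / (c - b)) := by
            simp [ζ, Unitary.zero_pow_q hF]
            field_simp
            ring
          rw [add_zero, eb] at hsum
          refine ⟨hsum, fun h2 => ?_⟩
          rw [map_mul, ey, S.φκ, kM_mU, jU_mul]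
          exact jU_congr hF _ _ (add_zero _) eb
        obtain ⟨hu2, hφu⟩ := hu2
        obtain ⟨_, -, _, y', hy', h3, ey', -, hGy'⟩ := turn _ _ hu2 u hu (hφu hu2) hGu
        have hy'' : P _ _ := fun _ z hz ez => huniq y' hy' z hz (ey'.trans ez.symm) ▸ hGy'
        have := scale _ _ 1 h3 (one_pow q) one_ne_zero hy''
        rw [one_mul, one_pow, one_mul,
          show -(-(a * δ) / b * δ) / (-δ ^ 2 * (1 / b + 1 / (c - b))) = -(a * (c - b) / c) by
            field_simp; ring_nf; field_simp,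
          show -δ ^ 2 / (-δ ^ 2 * (1 / b + 1 / (c - b))) = b * (c - b) / c by field_simp; ring_nf; field_simp] at this
        have h5 := scale _ _ (-1) (by
            have := negc _ _ h' (-1) (by rw [Unitary.neg_pow_q hF, one_pow])
            rwa [neg_one_mul, neg_one_sq, one_mul] at this)
          (by rw [Unitary.neg_pow_q hF, one_pow]) (neg_ne_zero.mpr one_ne_zero) this
        rw [neg_one_mul, neg_neg, neg_one_sq, one_mul] at h5
        exact h5 h' g hg e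
    have hP₀ : P a₀ b₀ := fun _ z hz ez => huniq g₀ hg₀ z hz (e₀.trans ez.symm) ▸ hG₀
    exact fun a b h ha => closed_all hF hδ hδt hclosed S.gen h₀ ha₀ hb₀ hP₀ a b h ha h
  have hall : ∀ g ∈ S.U, g ≠ 1 → S.Good g := by
    intro g hg hne
    obtain ⟨a, b, h, e⟩ := S.U_coord hg
    by_cases ha : a = 0
    · subst ha
      obtain ⟨t, ht⟩ := (coord_jU hF h).central hδ hδt
      have hgt : g = S.κ (mU t) := huniq g hg _ (S.z_mem t) (by rw [e, S.φκ, ht])
      have ht0 : t ≠ 0 := fun h0 => hne (by rw [hgt, h0, mU_zero, map_one])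
      obtain ⟨m, hm⟩ := S.central_good ht0
      rw [hgt]
      exact ⟨_, S.z_mem _, m, _, S.z_mem _, hm⟩
    · exact hS a b h ha g hg e
  let B : H → Prop := fun g => ∃ x ∈ S.U, ∃ k : ℤ, g = x * S.hh ^ k
  let Ω : H → Prop := fun g => B g ∨ S.Cell g
  have mU' : ∀ g y, Ω g → y ∈ S.U → Ω (g * y) := by
    rintro g y (⟨x, hx, k, rfl⟩ | hg) hy
    · exact Or.inl ⟨_, mul_mem hx (S.U_conj k hy), k, by group⟩
    · exact Or.inr (S.cell_right hg hy)
  have mh : ∀ g (m : ℤ), Ω g → Ω (g * S.hh ^ m) := by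
    rintro g m (⟨x, hx, k, rfl⟩ | hg)
    · exact Or.inl ⟨x, hx, k + m, by rw [zpow_add, mul_assoc]⟩
    · exact Or.inr (S.cell_hright hg m)
  have mw : ∀ g, Ω g → Ω (g * S.κ mT) := by
    rintro g (⟨x, hx, k, rfl⟩ | ⟨x, hx, k, y, hy, rfl⟩)
    · exact Or.inr ⟨x, hx, k, 1, one_mem _, by group⟩
    · obtain ⟨n, hn⟩ := S.w_sq
      by_cases hy1 : y = 1
      · refine Or.inl ⟨x, hx, k + n, ?_⟩
        rw [hy1, mul_one, mul_assoc, hn, zpow_add, zpow_natCast, mul_assoc]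
      · right
        have := S.cell_left hx (S.cell_hleft (k + n) (hall y hy hy1))
        rwa [zpow_add, zpow_natCast, ← hn, show x * (S.hh ^ k * (S.κ mT * S.κ mT) * ((S.κ mT)⁻¹ * y * S.κ mT)) =
          x * S.hh ^ k * S.κ mT * y * S.κ mT by group] at this
  have mwi : ∀ g, Ω g → Ω (g * (S.κ mT)⁻¹) := fun g hg => by
    obtain ⟨n, hn⟩ := S.w_inv
    rw [hn, ← mul_assoc]
    exact mw _ (mh _ _ hg)
  let N : Subgroup H :=
    { carrier := {y | ∀ g, Ω g → Ω (g * y) ∧ Ω (g * y⁻¹)}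
      one_mem' := fun g hg => by simp [hg]
      mul_mem' := fun {y z} hy hz g hg => by
        refine ⟨?_, ?_⟩
        · rw [← mul_assoc]; exact (hz _ (hy g hg).1).1
        · rw [mul_inv_rev, ← mul_assoc]; exact (hy _ (hz g hg).2).2
      inv_mem' := fun {y} hy g hg => ⟨(hy g hg).2, by rw [inv_inv]; exact (hy g hg).1⟩ }
  have hwN : S.κ mT ∈ N := fun g hg => ⟨mw g hg, mwi g hg⟩
  have hUN : ∀ y ∈ S.U, y ∈ N := fun y hy g hg => ⟨mU' g y hg hy, mU' g _ hg (inv_mem hy)⟩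
  have hhN : S.hh ∈ N := fun g hg => ⟨by simpa using mh g 1 hg, by simpa using mh g (-1) hg⟩
  have hNtop : N = ⊤ := by
    rw [eq_top_iff, ← hgen, Subgroup.closure_le]
    rintro y (⟨M, rfl⟩ | rfl | rfl)
    · have : N.comap S.κ = ⊤ := eq_top_of_mem hwN fun t => hUN _ (S.z_mem t)
      exact (this ▸ Subgroup.mem_top M : M ∈ N.comap S.κ)
    · exact hhN
    · exact hUN _ S.v_mem
  intro x hx
  have : Ω x := by simpa using ((hNtop ▸ Subgroup.mem_top x : x ∈ N) 1 (Or.inl ⟨1, one_mem _, 0, by simp⟩)).1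
  rcases this with ⟨u, hu, k, rfl⟩ | ⟨u, hu, k, y, hy, rfl⟩
  · obtain ⟨n, hn⟩ := S.hh_periodic k
    obtain ⟨a, b, h, e⟩ := S.U_coord hu
    rw [← hn, map_mul, e, S.φ_hh_pow] at hx
    have h00 := congrFun (congrFun (congrArg (mat hF) hx) 0) 0
    simp [-map_pow, mat_mul, mat_jU, mat_hM, mat_one] at h00
    have hd := orderOf_dvd_of_pow_eq_one (show ρ ^ n = 1 from Units.ext (by simpa using h00))
    rw [orderOf_gen hF S.gen] at hd
    obtain ⟨r, rfl⟩ := hd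
    have hk1 : S.hh ^ k = 1 := by rw [← hn, pow_mul, S.hh_order, one_pow]
    rw [show ρ ^ ((q ^ 2 - 1) * r) = 1 from Units.ext (by simpa using h00), map_one, mul_one, ← e] at hx
    rw [hk1, mul_one]
    exact hinj u hu hx
  · exfalso
    obtain ⟨a, b, c, d, h, h', l, -, -, e⟩ := S.φ_cell hu k hy
    exact cell_ne_one hF hδ hδt h h' l (e.symm.trans hx)

end Setup

end Cfsg.Agent.KSG55.SU3
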