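import Cfsg.Agent.KSG55.SU3.Model
import Cfsg.Agent.Lib.LinearGroup.UnitaryThreeRegular
import Cfsg.Agent.Lib.Unitary.Center

set_option autoImplicit false

/-! The hyperbolic model of `SU₃` and its centre. -/

namespace Cfsg.Agent.KSG55.SU3

open Matrix Cfsg.Agent.LinearGroup.SUThree
open Cfsg.Agent.Unitary (conjHom conjHom_apply herm)

variable {F : Type*} [Field F] [Fintype F] {q : ℕ}

theorem exists_equiv (hF : Fintype.card F = q ^ 2) : Nonempty (jGroup hF ≃* Cfsg.SU 3 F q) := by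
  have hσσ := Unitary.pow_q_pow_q hF
  -- a hyperbolic basis of the standard form
  obtain ⟨x, hx⟩ := Unitary.exists_norm_eq hF (t := (-1 : F))
    (by rw [Unitary.neg_pow_q hF, one_pow])
  have hx0 : x ≠ 0 := by
    rintro rfl
    rw [zero_pow (Nat.succ_ne_zero q)] at hx
    exact neg_ne_zero.mpr one_ne_zero hx.symm
  obtain ⟨ζ, hζ, hζ1⟩ : ∃ ζ : F, ζ ^ (q + 1) = 1 ∧ ζ ≠ 1 := by
    by_contra h
    push Not at h
    have hsub : Subsingleton {y : F // y ^ (q + 1) = 1} :=
      ⟨fun a b => Subtype.ext ((h a a.2).trans (h b b.2).symm)⟩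
    have := Finite.card_le_one_iff_subsingleton.mpr hsub
    rw [Unitary.card_norm_eq_one hF] at this
    have := Unitary.two_le_q hF
    omega
  set y : F := x * ζ with hy
  have hy' : y ^ (q + 1) = -1 := by rw [hy, mul_pow, hx, hζ, mul_one]
  rw [pow_succ] at hx hy'
  have hd : 1 + y * x ^ q ≠ 0 := by
    intro e
    have h : y * x ^ q = x * x ^ q := by linear_combination e - hx
    have := mul_right_cancel₀ (pow_ne_zero _ hx0) h
    rw [hy] at this
    exact hζ1 (mul_left_cancel₀ hx0 (this.trans (mul_one x).symm))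
  set s : F := (1 + y * x ^ q)⁻¹ with hs
  set P : Matrix (Fin 3) (Fin 3) F := !![1, 0, s; x, 0, s * y; 0, 1, 0] with hP
  have hs1 : s * (1 + y * x ^ q) = 1 := inv_mul_cancel₀ hd
  have hs2 : s ^ q * (1 + y ^ q * x) = 1 := by
    have h := congrArg (conjHom hF) hs1
    simpa [conjHom_apply hF, mul_pow, Unitary.add_pow_q hF, hσσ] using h
  have hPJ : Pᵀ * P.map (conjHom hF) = antiJ := by
    ext i j
    fin_cases i <;> fin_cases j <;>
      simp [hP, antiJ, Matrix.mul_apply, Fin.sum_univ_three, conjHom_apply hF, mul_pow,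
        Unitary.zero_pow_q hF]
    · linear_combination hx
    · linear_combination hs2
    · linear_combination hs1
    · linear_combination (s * s ^ q) * hy'
  have hPdet : IsUnit P.det := by
    rw [isUnit_iff_ne_zero]
    intro e
    have := congrArg Matrix.det hPJ
    rw [Matrix.det_mul, Matrix.det_transpose, e, zero_mul] at this
    simp [antiJ, Matrix.det_fin_three] at this
  -- the isomorphism onto `SU`
  have hherm : ∀ a b : Fin 3 → F, herm q (P *ᵥ a) (P *ᵥ b) = a ⬝ᵥ (antiJ *ᵥ fun i => b i ^ q) := by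
    intro a b
    rw [herm_eq_dot, ← hPJ, ← Matrix.mulVec_mulVec, Matrix.dotProduct_mulVec, Matrix.vecMul_transpose]
    congr 1
    funext i
    rw [← conjHom_apply hF]
    exact RingHom.map_mulVec (conjHom hF) P b i
  have hmem : ∀ X : jGroup hF, ∃ Y : ↥(Cfsg.SU 3 F q),
      ((Y : Matrix.SpecialLinearGroup (Fin 3) F) : Matrix (Fin 3) (Fin 3) F) =
        P * ((X : Matrix.SpecialLinearGroup (Fin 3) F) : Matrix (Fin 3) (Fin 3) F) * P⁻¹ := by
    intro X
    set M : Matrix (Fin 3) (Fin 3) F := ((X : Matrix.SpecialLinearGroup (Fin 3) F) : Matrix (Fin 3) (Fin 3) F)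
    refine ⟨⟨⟨P * M * P⁻¹, ?_⟩, ?_⟩, rfl⟩
    · rw [Matrix.det_conj ((Matrix.isUnit_iff_isUnit_det P).mpr hPdet)]
      exact (X : Matrix.SpecialLinearGroup (Fin 3) F).2
    · intro a b
      show herm q ((P * M * P⁻¹) *ᵥ a) ((P * M * P⁻¹) *ᵥ b) = herm q a b
      simp only [← Matrix.mulVec_mulVec]
      conv_rhs => rw [← Matrix.one_mulVec a, ← Matrix.one_mulVec b, ← Matrix.mul_nonsing_inv P hPdet,
        ← Matrix.mulVec_mulVec, ← Matrix.mulVec_mulVec]
      rw [hherm, hherm]
      generalize P⁻¹ *ᵥ a = a'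
      generalize P⁻¹ *ᵥ b = b'
      have e : (fun i => (M *ᵥ b') i ^ q) = M.map (conjHom hF) *ᵥ fun i => b' i ^ q := by
        funext i
        rw [← conjHom_apply hF]
        exact RingHom.map_mulVec (conjHom hF) M b' i
      rw [e, Matrix.mulVec_mulVec, Matrix.dotProduct_mulVec, ← Matrix.vecMul_transpose,
        Matrix.vecMul_vecMul, ← Matrix.mul_assoc, (mem_jGroup hF).mp X.2, ← Matrix.dotProduct_mulVec]
  choose Φ hΦ using hmem
  have hΦmul : ∀ X Y, Φ (X * Y) = Φ X * Φ Y := fun X Y => by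
    apply Subtype.ext; apply Subtype.ext
    simp only [Subgroup.coe_mul, Matrix.SpecialLinearGroup.coe_mul, hΦ]
    rw [show P * ((X : Matrix.SpecialLinearGroup (Fin 3) F) : Matrix (Fin 3) (Fin 3) F) * P⁻¹ *
      (P * ((Y : Matrix.SpecialLinearGroup (Fin 3) F) : Matrix (Fin 3) (Fin 3) F) * P⁻¹) =
      P * ((X : Matrix.SpecialLinearGroup (Fin 3) F) : Matrix (Fin 3) (Fin 3) F) * (P⁻¹ * P) *
      ((Y : Matrix.SpecialLinearGroup (Fin 3) F) : Matrix (Fin 3) (Fin 3) F) * P⁻¹ by
        simp only [Matrix.mul_assoc]]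
    rw [Matrix.nonsing_inv_mul _ hPdet, Matrix.mul_one]
    simp only [Matrix.mul_assoc]
  let Ψ : jGroup hF →* ↥(Cfsg.SU 3 F q) := MonoidHom.mk' Φ hΦmul
  refine ⟨MulEquiv.ofBijective Ψ ⟨fun X Y e => ?_, fun Y => ?_⟩⟩
  · have h := congrArg (fun Z : Cfsg.SU 3 F q =>
      P⁻¹ * ((Z : Matrix.SpecialLinearGroup (Fin 3) F) : Matrix (Fin 3) (Fin 3) F) * P) e
    simp only [Ψ, MonoidHom.mk'_apply, hΦ, Matrix.mul_assoc, Matrix.nonsing_inv_mul _ hPdet, Matrix.mul_one] at h
    simp only [← Matrix.mul_assoc, Matrix.nonsing_inv_mul _ hPdet, Matrix.one_mul] at h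
    exact Subtype.ext (Subtype.ext h)
  · set N : Matrix (Fin 3) (Fin 3) F := ((Y : Matrix.SpecialLinearGroup (Fin 3) F) : Matrix (Fin 3) (Fin 3) F)
    have hdet : (P⁻¹ * N * P).det = 1 := by
      rw [Matrix.det_conj' ((Matrix.isUnit_iff_isUnit_det P).mpr hPdet)]
      exact (Y : Matrix.SpecialLinearGroup (Fin 3) F).2
    have hX : (⟨P⁻¹ * N * P, hdet⟩ : Matrix.SpecialLinearGroup (Fin 3) F) ∈ jGroup hF := by
      refine (mem_jGroup hF).mpr ?_
      set M := P⁻¹ * N * P with hM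
      have hPM : P * M = N * P := by
        rw [hM, ← Matrix.mul_assoc, ← Matrix.mul_assoc, Matrix.mul_nonsing_inv _ hPdet, Matrix.one_mul]
      ext i j
      show (M.transpose * antiJ * M.map (conjHom hF) : Matrix (Fin 3) (Fin 3) F) i j = antiJ i j
      have h := Y.2 (P *ᵥ Pi.single i 1) (P *ᵥ Pi.single j 1)
      change herm q (N *ᵥ (P *ᵥ Pi.single i 1)) (N *ᵥ (P *ᵥ Pi.single j 1)) =
        herm q (P *ᵥ Pi.single i 1) (P *ᵥ Pi.single j 1) at h
      have e0 : ∀ u, N *ᵥ (P *ᵥ u) = P *ᵥ (M *ᵥ u) := fun u => by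
        rw [mulVec_mulVec, mulVec_mulVec, hPM]
      rw [e0, e0, hherm, hherm] at h
      have e : ∀ k, (fun l => (M *ᵥ Pi.single k 1) l ^ q) = M.map (conjHom hF) *ᵥ Pi.single k 1 := fun k => by
        funext l
        simp [conjHom_apply hF]
      have e1 : (fun l => (Pi.single j 1 : Fin 3 → F) l ^ q) = Pi.single j 1 := by
        funext l
        by_cases hl : l = j <;> simp [hl, Unitary.zero_pow_q hF]
      rw [e, e1, mulVec_mulVec, dotProduct_mulVec, ← vecMul_transpose, vecMul_vecMul, ← Matrix.mul_assoc,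
        ← dotProduct_mulVec] at h
      simpa [single_dotProduct, mulVec_single_one] using h
    refine ⟨⟨_, hX⟩, Subtype.ext (Subtype.ext ?_)⟩
    show ((Φ ⟨_, hX⟩ : Matrix.SpecialLinearGroup (Fin 3) F) : Matrix (Fin 3) (Fin 3) F) = N
    rw [hΦ]
    show P * (P⁻¹ * N * P) * P⁻¹ = N
    simp only [← Matrix.mul_assoc, Matrix.mul_nonsing_inv _ hPdet, Matrix.one_mul]
    rw [Matrix.mul_assoc, Matrix.mul_nonsing_inv _ hPdet, Matrix.mul_one]

/-- The centre is cyclic. -/
theorem center_normalClosure (hF : Fintype.card F = q ^ 2) {n : ℕ} (hn : 2 ≤ n) :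
    ∃ z : Cfsg.SU n F q, Subgroup.center (Cfsg.SU n F q) = Subgroup.normalClosure {z} := by
  classical
  let i0 : Fin n := ⟨0, by omega⟩
  have hs : ∀ z : Subgroup.center (Cfsg.SU n F q), ∀ x : Fin n → F, (z : Cfsg.SU n F q) • x =
      ((((z : Cfsg.SU n F q) : Matrix.SpecialLinearGroup (Fin n) F) : Matrix (Fin n) (Fin n) F) i0 i0) • x := by
    intro z x
    obtain ⟨r, hr⟩ := (Unitary.mem_center_iff hF hn).mp z.2
    have h1 := congrFun (hr (Pi.single i0 1)) i0
    have e : ∀ v : Fin n → F, (z : Cfsg.SU n F q) • v =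
        (((z : Cfsg.SU n F q) : Matrix.SpecialLinearGroup (Fin n) F) : Matrix (Fin n) (Fin n) F) *ᵥ v := fun v => rfl
    rw [e, mulVec_single_one] at h1
    simp at h1
    rw [hr x, h1]
  let f : Subgroup.center (Cfsg.SU n F q) →* F :=
    { toFun := fun z => (((z : Cfsg.SU n F q) : Matrix.SpecialLinearGroup (Fin n) F) : Matrix (Fin n) (Fin n) F) i0 i0
      map_one' := by simp
      map_mul' := fun z w => by
        have := congrFun (hs (z * w) (Pi.single i0 1)) i0
        rw [Subgroup.coe_mul, mul_smul, hs w, hs z] at this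
        simpa using this.symm }
  have hf : Function.Injective f := fun z w e => by
    apply Subtype.ext
    refine Unitary.eq_of_smul_eq_SU fun x => ?_
    rw [hs, hs]
    exact congrArg (· • x) e
  have : IsCyclic (Subgroup.center (Cfsg.SU n F q)) := isCyclic_of_injective_ringHom f hf
  obtain ⟨z, hz⟩ := IsCyclic.exists_generator (α := Subgroup.center (Cfsg.SU n F q))
  refine ⟨z, le_antisymm (fun x hx => ?_) (Subgroup.normalClosure_le_normal (Set.singleton_subset_iff.mpr z.2))⟩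
  obtain ⟨k, hk⟩ := hz ⟨x, hx⟩
  have : x = (z : Cfsg.SU n F q) ^ k := by
    have := congrArg Subtype.val hk
    simpa using this.symm
  rw [this]
  exact zpow_mem (Subgroup.subset_normalClosure (Set.mem_singleton _)) k

end Cfsg.Agent.KSG55.SU3
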