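import Cfsg.Agent.KSG55.SU3.Words
import Cfsg.Agent.KSG55.SU3.Iso
import Cfsg.Agent.KSG55.Pres.HomOf
import Cfsg.Agent.KSG55.Lin.Quot

set_option autoImplicit false
set_option linter.style.haveILetI false

/-! A presentation of `SU₃` with three generators. -/

namespace Cfsg.Agent.KSG55.SU3

open Cfsg.Agent.LinearGroup.SUThree Cfsg.Agent.KSG55.Lin Cfsg.Agent.KSG55.Pres
open Matrix (SpecialLinearGroup)

variable {F : Type*} [Field F] [Fintype F] {q : ℕ} {hF : Fintype.card F = q ^ 2}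
  {δ : F} {hδ : δ ≠ 0} {hδt : δ ^ q = -δ} {ρ : Fˣ} {b₁ : F} {h₁ : Cond q 1 b₁}

theorem presOn_five (hρ : ∀ x : Fˣ, x ∈ Submonoid.powers ρ) (hq : q ≠ 2) :
    PresOn (gens5 hF hδ hδt ρ h₁) 21 := by
  classical
  set a := normU hF ρ with ha
  obtain ⟨L, hL, hLrel, hLtop, hLhom⟩ :=
    (Sp.sl2_seven (a := a) fun x => mem_powers_iff_mem_zpowers.mp (normU_gen hF hρ x)).exists_hom
  set G5 := gens5 hF hδ hδt ρ h₁ with hG5
  let c : FreeGroup (Fin 3) →* FreeGroup (Fin 5) := FreeGroup.map (Fin.castLE (by omega))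
  have hw : ∀ x, ∃ W, FreeGroup.lift (Lin.gens a) W = x := fun x => by
    rw [← MonoidHom.mem_range, FreeGroup.range_lift_eq_closure, hLtop]; trivial
  choose Wκ hWκ using hw
  let zκ : SpecialLinearGroup (Fin 2) (fixK hF) → FreeGroup (Fin 5) := fun x => c (Wκ x)
  have mκ : ∀ w, FreeGroup.lift G5 (c w) = kM hF hδ hδt (FreeGroup.lift (Lin.gens a) w) := fun w =>
    DFunLike.congr_fun (FreeGroup.ext_hom ((FreeGroup.lift G5).comp c)
      ((kM hF hδ hδt).comp (FreeGroup.lift (Lin.gens a))) fun i => by simp [c, G5, a, gens5_castLE]) w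
  have hzκ : ∀ M, FreeGroup.lift G5 (zκ M) = kM hF hδ hδt M := fun M => by simp only [zκ, mκ, hWκ]
  set zh : FreeGroup (Fin 5) := FreeGroup.of 3
  let R1 := zh ^ (q + 1) * (zκ (mH a))⁻¹
  let R2 := zκ mT * zh * (zκ mT)⁻¹ * zh ^ q
  let R3 := zh * zκ (mU 1) * zh⁻¹ * (zκ (mU (a : fixK hF)))⁻¹
  obtain ⟨LB, hLB, hLBrel, hLBu⟩ := borel_rels hzκ hρ hq
  obtain ⟨R0, Wg, a₀, b₀, h₀, hR0, hWg, eWg, ha₀, hb₀, hR0u⟩ := cross_rel hzκ hρ hq
  refine presOn_of_inj G5 (L.map c ++ [R1, R2, R3, R0] ++ LB) ?_ ?_ ?_ ?_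
  · simp only [List.length_append, List.length_map, List.length_cons, List.length_nil]
    omega
  · intro w hw
    simp only [List.mem_append, List.mem_map, List.mem_cons, List.not_mem_nil, or_false] at hw
    rcases hw with (⟨v, hv, rfl⟩ | rfl | rfl | rfl | rfl) | hw
    · rw [mκ, hLrel v hv, map_one]
    · simp only [R1, map_mul, map_inv, map_pow, hzκ, zh, FreeGroup.lift_apply_of, G5, gens5_three]
      rw [mul_inv_eq_one, kM_mH, liftU_normU, map_pow]
    · simp only [R2, map_mul, map_inv, map_pow, hzκ, zh, FreeGroup.lift_apply_of, G5, gens5_three]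
      show wM hF hδ hδt * _ * (wM hF hδ hδt)⁻¹ * _ = 1
      rw [wM_conj, ← map_pow, ← map_mul, inv_mul_cancel, map_one]
    · simp only [R3, map_mul, map_inv, hzκ, zh, FreeGroup.lift_apply_of, G5, gens5_three]
      rw [mul_inv_eq_one, kM_mU, hM_conj, kM_mU]
      refine jU_congr hF _ _ (mul_zero _) ?_
      rw [normU_coe]
      simp
      ring
    · exact hR0
    · exact hLBrel w hw
  · rw [eq_top_iff, ← closure_three (hF := hF) (hδ := hδ) (hδt := hδt) (h₁ := h₁) hρ hq, Subgroup.closure_le]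
    rintro x (rfl | rfl | rfl)
    · exact Subgroup.subset_closure ⟨4, rfl⟩
    · exact Subgroup.subset_closure ⟨3, rfl⟩
    · exact Subgroup.subset_closure ⟨2, rfl⟩
  · intro H _ U φ hU hrel hφ
    have hlift : ∀ w, FreeGroup.lift (fun i => U (Fin.castLE (by omega) i)) w = FreeGroup.lift U (c w) := fun w =>
      DFunLike.congr_fun (FreeGroup.ext_hom _ ((FreeGroup.lift U).comp c) fun i => by simp [c]) w
    obtain ⟨κ, hκg⟩ := hLhom H (fun i => U (Fin.castLE (by omega) i)) fun w hw => by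
      rw [hlift]; exact hrel _ (by simp only [List.mem_append, List.mem_map]; exact Or.inl (Or.inl ⟨w, hw, rfl⟩))
    have hκ : ∀ M, κ M = FreeGroup.lift U (zκ M) := fun M => by
      simp only [zκ]
      rw [← hlift]
      conv_lhs => rw [← hWκ M]
      exact DFunLike.congr_fun (FreeGroup.ext_hom (κ.comp (FreeGroup.lift (Lin.gens a)))
        (FreeGroup.lift fun i => U (Fin.castLE (by omega) i)) fun i => by simp [hκg]) (Wκ M)
    have hφU : ∀ w, φ (FreeGroup.lift U w) = FreeGroup.lift G5 w := fun w =>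
      DFunLike.congr_fun (FreeGroup.ext_hom (φ.comp (FreeGroup.lift U)) (FreeGroup.lift G5)
        fun i => by simp [hφ]) w
    have r : ∀ w ∈ [R1, R2, R3, R0], FreeGroup.lift U w = 1 := fun w hw =>
      hrel w (List.mem_append_left _ (List.mem_append_right _ hw))
    have r1 := r R1 (by simp)
    have r2 := r R2 (by simp)
    have r3 := r R3 (by simp)
    simp only [R1, R2, R3, map_mul, map_inv, map_pow, zh, FreeGroup.lift_apply_of, ← hκ] at r1 r2 r3
    let S : Setup H hF hδ hδt ρ :=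
      { κ := κ, hh := U 3, v := U 4, φ := φ
        φκ := fun M => by rw [hκ, hφU, hzκ]
        φh := hφ 3
        φv := by rw [hφ 4]; exact coord_jU hF h₁
        gen := hρ
        R1 := mul_inv_eq_one.mp r1
        R2 := eq_inv_of_mul_eq_one_left r2
        z1 := mul_inv_eq_one.mp r3 }
    obtain ⟨hfin, hcard⟩ := hLBu H U κ hκ S.base fun w hw => hrel w (List.mem_append_right _ hw)
    obtain ⟨x, hx, k, y, hy, he⟩ := hR0u H U κ hκ (r R0 (by simp))
    refine S.inj hq hfin hcard ?_ ⟨_, lift_WU hκ hWg, a₀, b₀, h₀, (hφU Wg).trans eWg, ha₀, hb₀, ⟨x, hx, k, y, hy, he⟩⟩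
    rw [eq_top_iff, ← hU, Subgroup.closure_le]
    rintro _ ⟨i, rfl⟩
    fin_cases i
    · exact Subgroup.subset_closure (Or.inl ⟨_, hκg 0⟩)
    · exact Subgroup.subset_closure (Or.inl ⟨_, hκg 1⟩)
    · exact Subgroup.subset_closure (Or.inl ⟨_, hκg 2⟩)
    · exact Subgroup.subset_closure (Or.inr (Or.inl rfl))
    · exact Subgroup.subset_closure (Or.inr (Or.inr rfl))

theorem presOn_three (hρ : ∀ x : Fˣ, x ∈ Submonoid.powers ρ) (hq : q ≠ 2) :
    PresOn ![jU hF h₁, hM hF ρ, wM hF hδ hδt] 21 := by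
  have h := (presOn_five (hδ := hδ) (hδt := hδt) (h₁ := h₁) hρ hq).change
    ![jU hF h₁, hM hF ρ, wM hF hδ hδt] (by
      rw [show Set.range ![jU hF h₁, hM hF ρ, wM hF hδ hδt] = {jU hF h₁, hM hF ρ, wM hF hδ hδt} by
        simp [Matrix.range_cons, Matrix.range_empty, Set.insert_comm, Set.pair_comm]]
      exact closure_three hρ hq)
    ![some 4, some 3, some 2] (fun j i hj => by fin_cases j <;> simp at hj <;> subst hj <;> rfl)
    (fun j j' i hj hj' => by fin_cases j <;> fin_cases j' <;> simp at hj hj' ⊢ <;> subst hj <;> simp at hj')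
  refine h.mono (le_of_eq ?_)
  rw [Finset.filter_eq_empty_iff.mpr fun j _ => by fin_cases j <;> simp]
  rfl

variable (F q)

theorem su_three (hF : Fintype.card F = q ^ 2) (hq : q ≠ 2) :
    ∃ g : Fin 3 → Cfsg.SU 3 F q, PresOn g 21 := by
  obtain ⟨ρ, hρ⟩ := IsCyclic.exists_generator (α := Fˣ)
  obtain ⟨x, hx⟩ : ∃ x : F, x ^ q ≠ x := by
    by_contra h
    push Not at h
    have h1 : Nat.card F ≤ q := by
      rw [← Unitary.card_fixed hF]
      exact Nat.card_le_card_of_injective (fun x => (⟨x, h x⟩ : {x : F // x ^ q = x}))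
        fun a b e => congrArg Subtype.val e
    rw [Nat.card_eq_fintype_card, hF] at h1
    have := Unitary.two_le_q hF
    have : 2 * q ≤ q ^ 2 := by rw [sq]; exact Nat.mul_le_mul_right q this
    omega
  have hδ : x - x ^ q ≠ 0 := sub_ne_zero.mpr (Ne.symm hx)
  have hδt : (x - x ^ q) ^ q = -(x - x ^ q) := by
    rw [Unitary.sub_pow_q hF, Unitary.pow_q_pow_q hF]; ring
  obtain ⟨b, hb⟩ := Unitary.exists_trace_eq hF (t := (-1 : F)) (by rw [Unitary.neg_pow_q hF, one_pow])
  have h₁ : Cond q (1 : F) b := by unfold Cond; rw [hb, one_pow]; ring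
  obtain ⟨e⟩ := exists_equiv hF
  exact ⟨_, (presOn_three (hδ := hδ) (hδt := hδt) (h₁ := h₁)
    (fun y => mem_powers_iff_mem_zpowers.mpr (hρ y)) hq).map e⟩

theorem psu_three (hF : Fintype.card F = q ^ 2) (hq : q ≠ 2) :
    ∃ g : Fin 3 → Cfsg.PSU 3 F q, PresOn g 22 := by
  obtain ⟨g, hg⟩ := su_three F q hF hq
  obtain ⟨z, hz⟩ := center_normalClosure hF (n := 3) (by omega)
  exact ⟨_, hg.quotient (Subgroup.center _) z hz⟩

end Cfsg.Agent.KSG55.SU3
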