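import Cfsg.Agent.KSG55.Lin.SL2Mat
import Cfsg.Agent.Lib.LinearGroup.UnitaryThreeModel

set_option autoImplicit false

/-! The unitary group in three dimensions: the elements used in the presentation. -/

namespace Cfsg.Agent.KSG55.SU3

open Matrix Cfsg.Agent.LinearGroup.SUThree Cfsg.Agent.KSG55.Lin
open Cfsg.Agent.Unitary (conjHom conjHom_apply)

variable {F : Type*} [Field F] [Fintype F] {q : ℕ} (hF : Fintype.card F = q ^ 2)

/-- The fixed field. -/
def fixK : Subfield F := RingHom.eqLocusField (conjHom hF) (RingHom.id F)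

theorem mem_fixK {x : F} : x ∈ fixK hF ↔ x ^ q = x := Iff.rfl

theorem fixK_pow (x : fixK hF) : (x : F) ^ q = (x : F) := (mem_fixK hF).mp x.2

/-- The matrix of an element. -/
def mat (X : jGroup hF) : Matrix (Fin 3) (Fin 3) F := ((X : SpecialLinearGroup (Fin 3) F) : Matrix (Fin 3) (Fin 3) F)

theorem mat_mul (X Y : jGroup hF) : mat hF (X * Y) = mat hF X * mat hF Y := rfl

theorem mat_one : mat hF 1 = 1 := rfl

theorem mat_inj {X Y : jGroup hF} (h : mat hF X = mat hF Y) : X = Y := Subtype.ext (Subtype.ext h)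

theorem mat_jU {a b : F} (h : Cond q a b) : mat hF (jU hF h) = !![1, a, b; 0, 1, -a ^ q; 0, 0, 1] := rfl

/-- The torus. -/
def hM : Fˣ →* jGroup hF where
  toFun l := ⟨⟨!![(l : F), 0, 0; 0, (l : F) ^ q / (l : F), 0; 0, 0, ((l : F) ^ q)⁻¹], by
      have := pow_ne_zero q l.ne_zero
      simp [det_fin_three]; field_simp⟩, by
    refine (mem_jGroup hF).mpr ?_
    have h2 := Unitary.pow_q_pow_q hF (l : F)
    have := pow_ne_zero q l.ne_zero
    ext i j
    fin_cases i <;> fin_cases j <;>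
      simp [antiJ, Matrix.mul_apply, Fin.sum_univ_three, conjHom_apply hF, div_pow, inv_pow, h2,
        Unitary.zero_pow_q hF] <;> field_simp⟩
  map_one' := by
    apply mat_inj; ext i j; fin_cases i <;> fin_cases j <;> simp [mat, Matrix.one_fin_three]
  map_mul' l m := by
    refine mat_inj hF ?_
    rw [mat_mul]
    ext i j
    fin_cases i <;> fin_cases j <;>
      simp [mat, Matrix.mul_apply, Fin.sum_univ_three, mul_pow] <;> field_simp

theorem mat_hM (l : Fˣ) :
    mat hF (hM hF l) = !![(l : F), 0, 0; 0, (l : F) ^ q / (l : F), 0; 0, 0, ((l : F) ^ q)⁻¹] := rfl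

/-- The scaling of the first coordinate by the torus. -/
def eps (q : ℕ) (l : F) : F := l * l / l ^ q

omit [Fintype F] in
theorem eps_mul (l m : F) : eps q (l * m) = eps q l * eps q m := by
  simp only [eps, mul_pow, div_mul_div_comm]; ring_nf

omit [Fintype F] in
theorem eps_pow (l : F) (k : ℕ) : eps q (l ^ k) = eps q l ^ k := by
  induction k with
  | zero => simp [eps]
  | succ k ih => rw [pow_succ, pow_succ, eps_mul, ih]

include hF in
theorem cond_scale {a b : F} (h : Cond q a b) (l : Fˣ) :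
    Cond q (eps q (l : F) * a) ((l : F) * (l : F) ^ q * b) := by
  unfold Cond eps at *
  have h2 := Unitary.pow_q_pow_q hF (l : F)
  have := pow_ne_zero q l.ne_zero
  rw [mul_pow, mul_pow, mul_pow (((l : F) * l) / (l : F) ^ q), div_pow, mul_pow, h2]
  field_simp
  linear_combination h * ((l : F) * (l : F) ^ q)

theorem hM_conj {a b : F} (h : Cond q a b) (l : Fˣ) :
    hM hF l * jU hF h * (hM hF l)⁻¹ = jU hF (cond_scale hF h l) := by
  rw [mul_inv_eq_iff_eq_mul]
  apply mat_inj
  have h2 := Unitary.pow_q_pow_q hF (l : F)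
  have := pow_ne_zero q l.ne_zero
  ext i j
  fin_cases i <;> fin_cases j <;>
    simp [mat_mul, mat_hM, mat_jU, Matrix.mul_apply, Fin.sum_univ_three, eps, div_pow, mul_pow, h2] <;> field_simp

variable {δ : F} (hδ : δ ≠ 0) (hδt : δ ^ q = -δ)
include hδ hδt

/-- The matrix of the long root `SL₂`. -/
def kMat (δ : F) (M : SpecialLinearGroup (Fin 2) (fixK hF)) : Matrix (Fin 3) (Fin 3) F :=
  !![((M.1 0 0 : fixK hF) : F), 0, δ * ((M.1 0 1 : fixK hF) : F); 0, 1, 0;
      ((M.1 1 0 : fixK hF) : F) / δ, 0, ((M.1 1 1 : fixK hF) : F)]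

omit hδt in
theorem kMat_det (M : SpecialLinearGroup (Fin 2) (fixK hF)) : (kMat hF δ M).det = 1 := by
  have h := congrArg (fun x : fixK hF => (x : F)) ((det_fin_two M.1).symm.trans M.2)
  simp at h
  simp [kMat, det_fin_three]
  field_simp
  linear_combination h

omit hδt in
theorem kMat_mul (M N : SpecialLinearGroup (Fin 2) (fixK hF)) :
    kMat hF δ (M * N) = kMat hF δ M * kMat hF δ N := by
  ext i j
  fin_cases i <;> fin_cases j <;>
    simp [kMat, Matrix.mul_apply, Fin.sum_univ_three, Fin.sum_univ_two] <;> field_simp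

theorem kMat_mem (M : SpecialLinearGroup (Fin 2) (fixK hF)) :
    (⟨kMat hF δ M, kMat_det hF hδ M⟩ : SpecialLinearGroup (Fin 3) F) ∈ jGroup hF := by
  refine (mem_jGroup hF).mpr ?_
  have h := congrArg (fun x : fixK hF => (x : F)) ((det_fin_two M.1).symm.trans M.2)
  simp at h
  ext i j
  fin_cases i <;> fin_cases j <;>
    simp [kMat, antiJ, Matrix.mul_apply, Fin.sum_univ_three, conjHom_apply hF, div_pow, mul_pow, hδt, fixK_pow,
      Unitary.zero_pow_q hF] <;> field_simp <;>
    first | ring1 | linear_combination h | linear_combination -h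

/-- The long root `SL₂`. -/
def kM : SpecialLinearGroup (Fin 2) (fixK hF) →* jGroup hF where
  toFun M := ⟨⟨kMat hF δ M, kMat_det hF hδ M⟩, kMat_mem hF hδ hδt M⟩
  map_one' := by
    refine mat_inj hF ?_
    show kMat hF δ 1 = 1
    ext i j; fin_cases i <;> fin_cases j <;> simp [kMat]
  map_mul' M N := mat_inj hF (kMat_mul hF hδ M N)

theorem mat_kM (M : SpecialLinearGroup (Fin 2) (fixK hF)) :
    mat hF (kM hF hδ hδt M) = !![((M.1 0 0 : fixK hF) : F), 0, δ * ((M.1 0 1 : fixK hF) : F); 0, 1, 0;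
      ((M.1 1 0 : fixK hF) : F) / δ, 0, ((M.1 1 1 : fixK hF) : F)] := rfl

omit hδ in
theorem cond_central {t : F} (ht : t ^ q = t) : Cond q (0 : F) (δ * t) := by
  unfold Cond; rw [mul_pow, hδt, ht]; ring

theorem kM_mU (t : fixK hF) : kM hF hδ hδt (mU t) = jU hF (cond_central hδt (fixK_pow hF t)) := by
  apply mat_inj
  ext i j
  fin_cases i <;> fin_cases j <;> simp [mat_kM, mat_jU, Unitary.zero_pow_q hF]

/-- A unit of the fixed field as a unit. -/
def liftU (d : (fixK hF)ˣ) : Fˣ := Units.map ((fixK hF).subtype : fixK hF →* F) d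

theorem kM_mH (d : (fixK hF)ˣ) : kM hF hδ hδt (mH d) = hM hF (liftU hF d) := by
  apply mat_inj
  have h : ((d : fixK hF) : F) ^ q = ((d : fixK hF) : F) := fixK_pow hF _
  have h0 : ((d : fixK hF) : F) ≠ 0 := fun e => d.ne_zero (Subtype.ext e)
  ext i j
  fin_cases i <;> fin_cases j <;> simp [mat_kM, mat_hM, liftU, h, h0]

/-- The Weyl element. -/
def wM : jGroup hF := kM hF hδ hδt mT

theorem mat_wM : mat hF (wM hF hδ hδt) = !![0, 0, δ; 0, 1, 0; -1 / δ, 0, 0] := by
  ext i j; fin_cases i <;> fin_cases j <;> simp [wM, mat_kM]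

theorem wM_sq : wM hF hδ hδt * wM hF hδ hδt = hM hF (-1) := by
  apply mat_inj
  ext i j
  fin_cases i <;> fin_cases j <;>
    simp [mat_mul, mat_wM, mat_hM, Matrix.mul_apply, Fin.sum_univ_three, Unitary.neg_pow_q hF, hδ] <;> field_simp

theorem wM_conj (l : Fˣ) : wM hF hδ hδt * hM hF l * (wM hF hδ hδt)⁻¹ = hM hF (l ^ q)⁻¹ := by
  rw [mul_inv_eq_iff_eq_mul]
  apply mat_inj
  have h2 := Unitary.pow_q_pow_q hF (l : F)
  have := pow_ne_zero q l.ne_zero
  ext i j
  fin_cases i <;> fin_cases j <;>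
    simp [-map_inv, -map_pow, mat_mul, mat_wM, mat_hM, Matrix.mul_apply, Fin.sum_univ_three, inv_pow, h2] <;> try field_simp

theorem cell_entry {a b c d : F} (h : Cond q a b) (h' : Cond q c d) (l : Fˣ) :
    mat hF (jU hF h * hM hF l * wM hF hδ hδt * jU hF h') 2 =
      ![-((l : F) ^ q)⁻¹ / δ, -((l : F) ^ q)⁻¹ / δ * c, -((l : F) ^ q)⁻¹ / δ * d] := by
  funext j
  fin_cases j <;>
    simp [mat_mul, mat_jU, mat_hM, mat_wM, Matrix.mul_apply, Fin.sum_univ_three, neg_div, div_eq_mul_inv]

theorem cell_ne_one {a b c d : F} (h : Cond q a b) (h' : Cond q c d) (l : Fˣ) :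
    jU hF h * hM hF l * wM hF hδ hδt * jU hF h' ≠ 1 := by
  intro e
  have := congrFun (congrArg (fun X => mat hF X 2) e) 0
  rw [cell_entry hF hδ hδt h h' l] at this
  simp [mat_one, hδ] at this

omit hδ hδt in
theorem snd_ne_zero' {a b : F} (h : Cond q a b) (hne : jU hF h ≠ 1) : b ≠ 0 := by
  rintro rfl
  refine hne (mat_inj hF ?_)
  have h' : a * a ^ q = 0 := by simpa [Cond, Unitary.zero_pow_q hF] using h
  have ha : a = 0 := (mul_eq_zero.mp h').elim id (Unitary.pow_q_eq_zero_iff hF).mp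
  subst ha
  simp [mat_jU, mat_one, Unitary.zero_pow_q hF, Matrix.one_fin_three]

theorem wM_inv : (wM hF hδ hδt)⁻¹ = wM hF hδ hδt * hM hF (-1) := by
  rw [inv_eq_iff_mul_eq_one, ← mul_assoc, wM_sq, ← map_mul]; simp

/-- The right coordinates of a crossing. -/
theorem cross_right {a b c d e f : F} (h : Cond q a b) (h1 : Cond q c d) (h2 : Cond q e f) (l : Fˣ)
    (he : (wM hF hδ hδt)⁻¹ * jU hF h * wM hF hδ hδt = jU hF h1 * hM hF l * wM hF hδ hδt * jU hF h2) :
    e = -(a * δ) / b ∧ f = -δ ^ 2 / b := by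
  have hb : b ≠ 0 := by
    refine snd_ne_zero' hF h fun e1 => cell_ne_one hF hδ hδt h1 h2 l ?_
    rw [← he, e1, mul_one, inv_mul_cancel]
  have hrow := congrArg (fun X => mat hF X 2) he
  rw [cell_entry hF hδ hδt h1 h2 l, wM_inv] at hrow
  have r0 := congrFun hrow 0
  have r1 := congrFun hrow 1
  have r2 := congrFun hrow 2
  simp [mat_mul, mat_wM, mat_jU, mat_hM, Matrix.mul_apply, Fin.sum_univ_three, Unitary.neg_pow_q hF] at r0 r1 r2
  rw [← r0] at r1 r2
  constructor
  · field_simp at r1 ⊢; linear_combination r1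
  · field_simp at r2 ⊢; linear_combination r2

/-- Every element lies in one of the two cells. -/
theorem cases_cell (X : jGroup hF) :
    (∃ (a b : F) (h : Cond q a b) (l : Fˣ), X = jU hF h * hM hF l) ∨
    ∃ (a b c d : F) (h : Cond q a b) (h' : Cond q c d) (l : Fˣ),
      X = jU hF h * (wM hF hδ hδt)⁻¹ * (jU hF h' * hM hF l) := by
  have upper : ∀ Y : jGroup hF, mat hF Y 2 0 = 0 →
      ∃ (a b : F) (h : Cond q a b) (l : Fˣ), Y = jU hF h * hM hF l := by
    intro Y h20
    have hJ : ∀ i j, mat hF Y 0 i * mat hF Y 2 j ^ q + mat hF Y 1 i * mat hF Y 1 j ^ q +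
        mat hF Y 2 i * mat hF Y 0 j ^ q = antiJ i j := fun i j => by
      have := congrFun (congrFun ((mem_jGroup hF).mp Y.2) i) j
      rw [← this]
      simp [mat, antiJ, Matrix.mul_apply, Fin.sum_univ_three, conjHom_apply hF]
      ring
    have hdet : (mat hF Y).det = 1 := (Y : SpecialLinearGroup (Fin 3) F).2
    have h10 : mat hF Y 1 0 = 0 := by
      have := hJ 0 0
      simp [h20, antiJ, Unitary.zero_pow_q hF] at this
      exact this.elim id fun h => h.1
    have h22 : mat hF Y 0 0 * mat hF Y 2 2 ^ q = 1 := by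
      have := hJ 0 2
      simpa [h20, h10, antiJ] using this
    have h00 : mat hF Y 0 0 ≠ 0 := left_ne_zero_of_mul_eq_one h22
    have h21 : mat hF Y 2 1 = 0 := by
      have := hJ 0 1
      simp [h20, h10, antiJ, h00] at this
      exact this.1
    set l := Units.mk0 (mat hF Y 0 0) h00
    have hs : mat hF Y 2 2 = ((mat hF Y 0 0) ^ q)⁻¹ := by
      have := congrArg (· ^ q) h22
      simp only [mul_pow, Unitary.pow_q_pow_q hF, one_pow] at this
      exact eq_inv_of_mul_eq_one_right this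
    have hlq : mat hF Y 0 0 ^ q ≠ 0 := pow_ne_zero q h00
    have hr : mat hF Y 1 1 = mat hF Y 0 0 ^ q / mat hF Y 0 0 := by
      rw [det_fin_three] at hdet
      simp [h20, h10, h21, hs] at hdet
      field_simp at hdet ⊢
      linear_combination hdet
    have e12 := hJ 1 2
    have e22 := hJ 2 2
    simp [h20, h10, h21, hs, hr, antiJ, Unitary.zero_pow_q hF, inv_pow, Unitary.pow_q_pow_q hF] at e12 e22
    have hrq : (mat hF Y 0 0 ^ q / mat hF Y 0 0) ≠ 0 := div_ne_zero hlq h00
    have hv : mat hF Y 1 2 = -((mat hF Y 0 1 * mat hF Y 0 0 / mat hF Y 0 0 ^ q) ^ q / mat hF Y 0 0 ^ q) := by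
      have e' := congrArg (· ^ q) e12
      simp only [Unitary.add_pow_q hF, mul_pow, div_pow, inv_pow, Unitary.pow_q_pow_q hF,
        Unitary.zero_pow_q hF] at e'
      rw [div_pow, mul_pow, Unitary.pow_q_pow_q hF]
      field_simp at e' ⊢
      linear_combination e'
    have hc : Cond q (mat hF Y 0 1 * mat hF Y 0 0 / mat hF Y 0 0 ^ q) (mat hF Y 0 2 * mat hF Y 0 0 ^ q) := by
      unfold Cond
      rw [hv] at e22
      simp only [neg_div, Unitary.neg_pow_q hF, div_pow, mul_pow, Unitary.pow_q_pow_q hF] at e22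
      rw [div_pow, mul_pow, mul_pow, Unitary.pow_q_pow_q hF]
      field_simp at e22 ⊢
      linear_combination e22
    refine ⟨_, _, hc, l, mat_inj hF ?_⟩
    ext i j
    fin_cases i <;> fin_cases j <;>
      simp [mat_mul, mat_jU, mat_hM, Matrix.mul_apply, Fin.sum_univ_three, l, h20, h10, h21, hs, hr, hv] <;>
      field_simp
  by_cases h20 : mat hF X 2 0 = 0
  · exact Or.inl (upper X h20)
  · right
    set z : Fin 3 → F := fun i => mat hF X i 0 / mat hF X 2 0
    have hz2 : z 2 = 1 := div_self h20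
    have hzI : Iso q z := by
      have := congrFun (congrFun ((mem_jGroup hF).mp X.2) 0) 0
      simp [antiJ, Matrix.mul_apply, Fin.sum_univ_three, conjHom_apply hF] at this
      unfold Iso
      have h20' : ((X : SpecialLinearGroup (Fin 3) F) : Matrix (Fin 3) (Fin 3) F) 2 0 ≠ 0 := h20
      have hq20 := pow_ne_zero q h20'
      simp only [z, div_pow, mat]
      field_simp
      linear_combination this
    set u := jU hF (cond_of_iso hF hzI hz2)
    have hY : mat hF (wM hF hδ hδt * (u⁻¹ * X)) 2 0 = 0 := by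
      have e : mat hF X *ᵥ Pi.single 0 1 = mat hF X 2 0 • z := by
        funext i
        simp [z, Matrix.mulVec_single_one]
        field_simp
      have e2 : mat hF (u⁻¹ * X) *ᵥ Pi.single 0 1 = mat hF X 2 0 • Pi.single 2 1 := by
        rw [mat_mul, ← mulVec_mulVec, e, mulVec_smul, ← jU_mulVec hF hzI hz2, mulVec_mulVec]
        congr 1
        show (mat hF u⁻¹ * mat hF u) *ᵥ _ = _
        rw [← mat_mul, inv_mul_cancel, mat_one, one_mulVec]
      have e3 := congrFun (congrArg (fun v => mat hF (wM hF hδ hδt) *ᵥ v) e2) 2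
      rw [mulVec_mulVec, ← mat_mul, mulVec_single_one, mulVec_smul, mulVec_single_one] at e3
      simpa [mat_wM] using e3
    obtain ⟨c, d, h', l, e⟩ := upper _ hY
    refine ⟨_, _, c, d, cond_of_iso hF hzI hz2, h', l, ?_⟩
    show X = u * (wM hF hδ hδt)⁻¹ * _
    rw [← e]; group

end Cfsg.Agent.KSG55.SU3
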