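import Cfsg.Agent.KSG55.SU3.Inj
import Cfsg.Agent.KSG55.Sp.Cases

set_option autoImplicit false
set_option linter.style.haveILetI false

/-! Words for the relations of `SU₃`. -/

namespace Cfsg.Agent.KSG55.SU3

open Polynomial Cfsg.Agent.LinearGroup.SUThree Cfsg.Agent.KSG55.Lin
open Matrix (SpecialLinearGroup)

variable {F : Type*} [Field F] [Fintype F] {q : ℕ} {hF : Fintype.card F = q ^ 2}
  {δ : F} {hδ : δ ≠ 0} {hδt : δ ^ q = -δ} {ρ : Fˣ} {b₁ : F} {h₁ : Cond q 1 b₁}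

/-- Five generators. -/
def gens5 (hF : Fintype.card F = q ^ 2) (hδ : δ ≠ 0) (hδt : δ ^ q = -δ) (ρ : Fˣ) (h₁ : Cond q 1 b₁) :
    Fin 5 → jGroup hF :=
  ![kM hF hδ hδt (mU 1), kM hF hδ hδt (mH (normU hF ρ)), kM hF hδ hδt mT, hM hF ρ, jU hF h₁]

theorem gens5_three : gens5 hF hδ hδt ρ h₁ 3 = hM hF ρ := rfl

theorem gens5_four : gens5 hF hδ hδt ρ h₁ 4 = jU hF h₁ := rfl

theorem gens5_castLE (i : Fin 3) :
    gens5 hF hδ hδt ρ h₁ (Fin.castLE (by omega) i) = kM hF hδ hδt (Lin.gens (normU hF ρ) i) := by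
  fin_cases i <;> rfl

/-- Every first coordinate is reached by a word in the conjugates of `v`. -/
theorem exists_polyWord (hρ : ∀ x : Fˣ, x ∈ Submonoid.powers ρ) (hq : q ≠ 2) {p : ℕ} [Fact p.Prime]
    [Algebra (ZMod p) F] (a : F) : ∃ P : (ZMod p)[X], Coord hF (polyWord (hM hF ρ) (jU hF h₁) P) a := by
  obtain ⟨P, hP⟩ := exists_aeval (adjoin_eps hF hρ (p := p) hq) a
  refine ⟨P, ?_⟩
  have := (coord_jU hF h₁).polyWord (p := p) ρ P
  rwa [hP, mul_one] at this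

/-- Three elements generate. -/
theorem closure_three (hρ : ∀ x : Fˣ, x ∈ Submonoid.powers ρ) (hq : q ≠ 2) :
    Subgroup.closure ({jU hF h₁, hM hF ρ, wM hF hδ hδt} : Set (jGroup hF)) = ⊤ := by
  obtain ⟨p, hchar⟩ := CharP.exists F
  haveI := hchar
  haveI : Fact p.Prime := ⟨CharP.char_is_prime F p⟩
  letI := ZMod.algebra F p
  set N := Subgroup.closure ({jU hF h₁, hM hF ρ, wM hF hδ hδt} : Set (jGroup hF))
  have hv : jU hF h₁ ∈ N := Subgroup.subset_closure (Or.inl rfl)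
  have hh : hM hF ρ ∈ N := Subgroup.subset_closure (Or.inr (Or.inl rfl))
  have hw : wM hF hδ hδt ∈ N := Subgroup.subset_closure (Or.inr (Or.inr rfl))
  have hhl : ∀ l, hM hF l ∈ N := fun l => by
    obtain ⟨k, hk⟩ := hρ l
    rw [← (show ρ ^ k = l from hk), map_pow]
    exact pow_mem hh k
  have hcoord : ∀ a : F, ∃ (b : F) (h : Cond q a b), jU hF h ∈ N := fun a => by
    obtain ⟨P, b, h, e⟩ := exists_polyWord (hF := hF) (h₁ := h₁) hρ hq (p := p) a
    refine ⟨b, h, e ▸ ?_⟩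
    refine Subgroup.list_prod_mem _ fun x hx => ?_
    obtain ⟨l, -, rfl⟩ := List.mem_map.mp hx
    exact pow_mem (mul_mem (mul_mem (pow_mem hh l) hv) (inv_mem (pow_mem hh l))) _
  have hcen : ∀ (t : F) (h : Cond q (0 : F) t), jU hF h ∈ N := fun t h => by
    obtain ⟨x, hx⟩ := Unitary.exists_trace_eq hF (t := t / δ) (by
      rw [div_pow, cond_zero_iff.mp h, hδt, neg_div_neg_eq])
    obtain ⟨d, hd, hdN⟩ := hcoord (δ * x)
    have e : jU hF h = (jU hF hd * jU hF h₁)⁻¹ * (jU hF h₁ * jU hF hd) := by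
      rw [eq_inv_mul_iff_mul_eq, jU_mul, jU_mul, jU_mul]
      refine jU_congr hF _ _ (by ring) ?_
      rw [Unitary.zero_pow_q hF, one_pow, mul_zero, sub_zero, mul_pow, hδt]
      have : δ * (x + x ^ q) = t := by rw [hx, mul_div_cancel₀ _ hδ]
      linear_combination -this
    rw [e]
    exact mul_mem (inv_mem (mul_mem hdN hv)) (mul_mem hv hdN)
  have hU : ∀ {a b : F} (h : Cond q a b), jU hF h ∈ N := fun {a b} h => by
    obtain ⟨d, hd, hdN⟩ := hcoord a
    have h0 : Coord hF ((jU hF hd)⁻¹ * jU hF h) 0 := by simpa using (coord_jU hF hd).inv.mul (coord_jU hF h)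
    obtain ⟨t, ht, e⟩ := h0
    rw [show jU hF h = jU hF hd * ((jU hF hd)⁻¹ * jU hF h) by group, e]
    exact mul_mem hdN (hcen t ht)
  rw [eq_top_iff]
  intro X _
  rcases cases_cell hF hδ hδt X with ⟨a, b, h, l, rfl⟩ | ⟨a, b, c, d, h, h', l, rfl⟩
  · exact mul_mem (hU h) (hhl l)
  · exact mul_mem (mul_mem (hU h) (inv_mem hw)) (mul_mem (hU h') (hhl l))

variable {zκ : SpecialLinearGroup (Fin 2) (fixK hF) → FreeGroup (Fin 5)}

/-- The words of the radical. -/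
def WU (zκ : SpecialLinearGroup (Fin 2) (fixK hF) → FreeGroup (Fin 5)) : Subgroup (FreeGroup (Fin 5)) :=
  orbGroup (FreeGroup.of 3) (FreeGroup.of 4) ⊔ Subgroup.closure (Set.range fun t : fixK hF => zκ (mU t))

theorem lift_WU {H : Type*} [Group H] {U : Fin 5 → H} {κ : SpecialLinearGroup (Fin 2) (fixK hF) →* H}
    (hκ : ∀ M, κ M = FreeGroup.lift U (zκ M)) {W : FreeGroup (Fin 5)} (hW : W ∈ WU zκ) :
    FreeGroup.lift U W ∈ Ug κ (U 3) (U 4) := by
  refine (show WU zκ ≤ (Ug κ (U 3) (U 4)).comap (FreeGroup.lift U) from ?_) hW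
  refine sup_le ?_ ?_
  · rw [orbGroup, Subgroup.closure_le]
    rintro _ ⟨l, rfl⟩
    refine Subgroup.mem_sup_left ?_
    rw [map_orb, FreeGroup.lift_apply_of, FreeGroup.lift_apply_of]
    exact mem_orbGroup _ _ _
  · rw [Subgroup.closure_le]
    rintro _ ⟨t, rfl⟩
    exact Subgroup.mem_sup_right (mem_Zr.mpr ⟨t, hκ _⟩)

variable (hzκ : ∀ M, FreeGroup.lift (gens5 hF hδ hδt ρ h₁) (zκ M) = kM hF hδ hδt M)

include hzκ

/-- Words for all unipotent elements. -/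
theorem exists_word (hρ : ∀ x : Fˣ, x ∈ Submonoid.powers ρ) (hq : q ≠ 2) {a b : F} (h : Cond q a b) :
    ∃ W ∈ WU zκ, FreeGroup.lift (gens5 hF hδ hδt ρ h₁) W = jU hF h := by
  obtain ⟨p, hchar⟩ := CharP.exists F
  haveI := hchar
  haveI : Fact p.Prime := ⟨CharP.char_is_prime F p⟩
  letI := ZMod.algebra F p
  obtain ⟨P, hc⟩ := exists_polyWord (hF := hF) (h₁ := h₁) hρ hq (p := p) a
  set g := polyWord (hM hF ρ) (jU hF h₁) P with hg
  have h0 : Coord hF (g⁻¹ * jU hF h) 0 := by simpa using hc.inv.mul (coord_jU hF h)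
  obtain ⟨t, ht⟩ := h0.central hδ hδt
  refine ⟨polyWord (FreeGroup.of 3) (FreeGroup.of 4) P * zκ (mU t), mul_mem ?_ ?_, ?_⟩
  · exact Subgroup.mem_sup_left (Subgroup.list_prod_mem _ fun x hx => by
      obtain ⟨l, -, rfl⟩ := List.mem_map.mp hx
      exact pow_mem (mem_orbGroup _ _ _) _)
  · exact Subgroup.mem_sup_right (Subgroup.subset_closure ⟨t, rfl⟩)
  · rw [map_mul, map_polyWord, FreeGroup.lift_apply_of, FreeGroup.lift_apply_of, hzκ, gens5_three, gens5_four,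
      ← hg, ht, mul_inv_cancel_left]

/-- A relation putting a word into the root group. -/
theorem toZ {W : FreeGroup (Fin 5)} (hW : Coord hF (FreeGroup.lift (gens5 hF hδ hδt ρ h₁) W) 0) :
    ∃ R, FreeGroup.lift (gens5 hF hδ hδt ρ h₁) R = 1 ∧
      ∀ (H : Type) [Group H] (U : Fin 5 → H) (κ : SpecialLinearGroup (Fin 2) (fixK hF) →* H),
        (∀ M, κ M = FreeGroup.lift U (zκ M)) → FreeGroup.lift U R = 1 → FreeGroup.lift U W ∈ Zr κ := by
  obtain ⟨t, ht⟩ := hW.central hδ hδt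
  refine ⟨W * (zκ (mU t))⁻¹, ?_, fun H _ U κ hκ h => ?_⟩
  · rw [map_mul, map_inv, hzκ, ht, mul_inv_cancel]
  · rw [map_mul, map_inv, mul_inv_eq_one, ← hκ] at h
    exact mem_Zr.mpr ⟨t, h.symm⟩

/-- A relation for commutation with a root element. -/
theorem toComm (s : fixK hF) :
    ∃ R, FreeGroup.lift (gens5 hF hδ hδt ρ h₁) R = 1 ∧
      ∀ (H : Type) [Group H] (U : Fin 5 → H) (κ : SpecialLinearGroup (Fin 2) (fixK hF) →* H),
        (∀ M, κ M = FreeGroup.lift U (zκ M)) → FreeGroup.lift U R = 1 → Commute (U 4) (κ (mU s)) := by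
  refine ⟨FreeGroup.of 4 * zκ (mU s) * (FreeGroup.of 4)⁻¹ * (zκ (mU s))⁻¹, ?_, fun H _ U κ hκ h => ?_⟩
  · simp only [map_mul, map_inv, hzκ, FreeGroup.lift_apply_of, gens5_four]
    rw [mul_inv_eq_one, mul_inv_eq_iff_eq_mul, kM_mU, jU_mul, jU_mul]
    refine jU_congr hF _ _ (add_comm _ _) ?_
    rw [Unitary.zero_pow_q hF]; ring
  · simp only [map_mul, map_inv, ← hκ, FreeGroup.lift_apply_of] at h
    rw [mul_inv_eq_one, mul_inv_eq_iff_eq_mul] at h
    exact h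

/-- Ten relations bound the radical. -/
theorem borel_rels (hρ : ∀ x : Fˣ, x ∈ Submonoid.powers ρ) (hq : q ≠ 2) :
    ∃ L : List (FreeGroup (Fin 5)), L.length ≤ 10 ∧ (∀ w ∈ L, FreeGroup.lift (gens5 hF hδ hδt ρ h₁) w = 1) ∧
      ∀ (H : Type) [Group H] (U : Fin 5 → H) (κ : SpecialLinearGroup (Fin 2) (fixK hF) →* H),
        (∀ M, κ M = FreeGroup.lift U (zκ M)) → Base κ (U 3) (normU hF ρ) → (∀ w ∈ L, FreeGroup.lift U w = 1) →
        (Ug κ (U 3) (U 4) : Set H).Finite ∧ Nat.card (Ug κ (U 3) (U 4)) ≤ q ^ 3 := by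
  obtain ⟨p, hchar⟩ := CharP.exists F
  haveI := hchar
  haveI : Fact p.Prime := ⟨CharP.char_is_prime F p⟩
  letI := ZMod.algebra F p
  haveI : CharP (fixK hF) p := RingHom.charP (fixK hF).subtype Subtype.val_injective p
  letI := ZMod.algebra (fixK hF) p
  obtain ⟨e, he⟩ : ∃ e, q = p ^ e := by
    obtain ⟨n, -, hn⟩ := FiniteField.card F p
    rw [hF] at hn
    obtain ⟨k, -, hk⟩ := (Nat.dvd_prime_pow (Fact.out : p.Prime)).mp (hn ▸ dvd_pow_self q two_ne_zero)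
    exact ⟨k, hk⟩
  have hcf : Nat.card (fixK hF) = q := card_fixK hF
  set G5 := gens5 hF hδ hδt ρ h₁ with hG5
  set ε := eps q (ρ : F)
  set M := minpoly (ZMod p) ε
  have hMo : M.Monic := minpoly.monic (Algebra.IsIntegral.isIntegral _)
  have hMq : p ^ M.natDegree ≤ q ^ 2 := hF ▸ pow_natDegree_minpoly_le ε
  have hd2 : M.natDegree ≤ 2 * e := by
    have := hMq
    rw [he, ← pow_mul, mul_comm] at this
    exact (Nat.pow_le_pow_iff_right (Fact.out : p.Prime).one_lt).mp this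
  have hcard : p ^ M.natDegree * Nat.card (fixK hF) ≤ q ^ 3 := by
    rw [hcf, pow_succ]; exact Nat.mul_le_mul_right q hMq
  have hv : Coord hF (G5 4) 1 := coord_jU hF h₁
  set zh : FreeGroup (Fin 5) := FreeGroup.of 3 with hzh
  set zv : FreeGroup (Fin 5) := FreeGroup.of 4 with hzv
  have eh : FreeGroup.lift G5 zh = hM hF ρ := by simp [zh, G5, gens5]
  have ev : FreeGroup.lift G5 zv = G5 4 := by simp [zv]
  have co : ∀ l, Coord hF (FreeGroup.lift G5 (orb zh zv l)) (ε ^ l) := fun l => by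
    rw [map_orb, eh, ev]
    simpa using hv.orb ρ l
  obtain ⟨Rp, hRp, uRp⟩ := toZ hzκ (W := zv ^ p) (by
    have := hv.pow p
    rwa [CharP.cast_eq_zero, zero_mul, ← ev, ← map_pow] at this)
  obtain ⟨RM, hRM, uRM⟩ := toZ hzκ (W := polyWord zh zv M) (by
    rw [map_polyWord, eh, ev]
    have := hv.polyWord (p := p) ρ M
    rwa [minpoly.aeval, zero_mul] at this)
  have hcm : ∀ k, Coord hF (FreeGroup.lift G5 (zv * orb zh zv k * zv⁻¹ * (orb zh zv k)⁻¹)) 0 := fun k => by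
    rw [map_mul, map_mul, map_mul, map_inv, map_inv, ev]
    have := ((hv.mul (co k)).mul hv.inv).mul (co k).inv
    rwa [show (1 : F) + ε ^ k + -1 + -(ε ^ k) = 0 by ring] at this
  choose Rc hRc uRc using fun k => toZ hzκ (hcm k)
  choose Rs hRs uRs using fun s => toComm (hzκ := hzκ) s
  set α := normU hF ρ with hα
  by_cases he4 : 4 ≤ e
  · obtain ⟨i, j, c, hB, hj, hadj⟩ := exists_link hF hρ he he4
    obtain ⟨P, hP⟩ := exists_aeval hadj ε
    obtain ⟨Rl, hRl, uRl⟩ := toZ hzκ (W := (zv * orb zh zv i)⁻¹ * orb zh zv j) (by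
      rw [map_mul, map_inv, map_mul, ev]
      have := (hv.mul (co i)).inv.mul (co j)
      rwa [show -((1 : F) + ε ^ i) + ε ^ j = 0 by rw [hj]; ring] at this)
    obtain ⟨Rg, hRg, uRg⟩ := toZ hzκ (W := (polyWord (zh ^ i) zv P)⁻¹ * orb zh zv 1) (by
      rw [map_mul, map_inv, map_polyWord, map_pow, eh, ev, ← map_pow]
      have := (hv.polyWord (p := p) (ρ ^ i) P).inv.mul (co 1)
      rwa [Units.val_pow_eq_pow_val, eps_pow, hP, mul_one, pow_one, neg_add_cancel] at this)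
    refine ⟨[Rs 1, Rs ((α : fixK hF) ^ i)⁻¹, Rl, Rg, Rc i, Rp, RM], by simp, ?_, ?_⟩
    · intro w hw
      simp only [List.mem_cons, List.not_mem_nil, or_false] at hw
      rcases hw with rfl | rfl | rfl | rfl | rfl | rfl | rfl
      exacts [hRs _, hRs _, hRl, hRg, hRc _, hRp, hRM]
    · intro H _ U κ hκ D hL
      haveI : CharP (fixK hF) p := inferInstance
      have hm : ∀ w ∈ [Rs 1, Rs ((α : fixK hF) ^ i)⁻¹, Rl, Rg, Rc i, Rp, RM], FreeGroup.lift U w = 1 := hL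
      have hB' : (α : fixK hF) ^ j = (α : fixK hF) ^ i + (c : fixK hF) := by
        apply Subtype.ext
        push_cast
        rw [normU_coe, mul_pow, mul_pow, add_comm ((ρ : F) ^ i * _) _]
        have e1 : ∀ l : ℕ, ε ^ l * (ε ^ l) ^ q = (ρ : F) ^ l * ((ρ : F) ^ q) ^ l := fun l => by
          rw [← eps_pow, eps_norm hF (pow_ne_zero l ρ.ne_zero), ← pow_mul, ← pow_mul, mul_comm l q]
        rw [← e1, ← e1, hB]
      have z1 := uRl H U κ hκ (hm Rl (by simp))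
      have z2 := uRg H U κ hκ (hm Rg (by simp))
      have z3 := uRc i H U κ hκ (hm (Rc i) (by simp))
      have z4 := uRp H U κ hκ (hm Rp (by simp))
      have z5 := uRM H U κ hκ (hm RM (by simp))
      simp only [map_mul, map_inv, map_pow, map_orb, map_polyWord, FreeGroup.lift_apply_of, zh, zv] at z1 z2 z3 z4 z5
      obtain ⟨-, hfin, hle⟩ := bound_link D hB' (uRs 1 H U κ hκ (hm (Rs 1) (by simp)))
        (uRs _ H U κ hκ (hm (Rs ((α : fixK hF) ^ i)⁻¹) (by simp))) z1 z2 z3 z4 hMo z5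
      exact ⟨hfin, hle.trans hcard⟩
  · set m := minpoly (ZMod p) (α : fixK hF)
    have hde : m.natDegree ≤ e := by
      have : p ^ m.natDegree ≤ p ^ e := by
        letI := Fintype.ofFinite (fixK hF)
        exact (pow_natDegree_minpoly_le (p := p) (α : fixK hF)).trans
          (le_of_eq (Nat.card_eq_fintype_card.symm.trans (hcf.trans he)))
      exact (Nat.pow_le_pow_iff_right (Fact.out : p.Prime).one_lt).mp this
    let L := (List.range m.natDegree).map (fun k => Rs ((α : fixK hF) ^ k)) ++ [Rp, RM] ++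
      (List.range (M.natDegree - 1)).map fun k => Rc (k + 1)
    refine ⟨L, by simp [L]; omega, ?_, ?_⟩
    · intro w hw
      simp only [L, List.mem_append, List.mem_map, List.mem_cons, List.not_mem_nil, or_false] at hw
      rcases hw with (⟨k, -, rfl⟩ | rfl | rfl) | ⟨k, -, rfl⟩
      exacts [hRs _, hRp, hRM, hRc _]
    · intro H _ U κ hκ D hL
      have z4 := uRp H U κ hκ (hL Rp (by simp [L]))
      have z5 := uRM H U κ hκ (hL RM (by simp [L]))
      simp only [map_mul, map_inv, map_pow, map_orb, map_polyWord, FreeGroup.lift_apply_of, zh, zv] at z4 z5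
      have hz : ∀ k < m.natDegree, Commute (U 4) (κ (mU ((α : fixK hF) ^ k))) := fun k hk =>
        uRs _ H U κ hκ (hL _ (List.mem_append_left _ (List.mem_append_left _
          (List.mem_map.mpr ⟨k, List.mem_range.mpr hk, rfl⟩))))
      have hlow : ∀ k < M.natDegree, U 4 * orb (U 3) (U 4) k * (U 4)⁻¹ * (orb (U 3) (U 4) k)⁻¹ ∈ Zr κ := by
        intro k hk
        rcases Nat.eq_zero_or_pos k with rfl | hk0
        · rw [orb_zero]; simp
        obtain ⟨k', rfl⟩ : ∃ k', k = k' + 1 := ⟨k - 1, by omega⟩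
        have := uRc (k' + 1) H U κ hκ (hL _ (List.mem_append_right _
          (List.mem_map.mpr ⟨k', List.mem_range.mpr (by omega), rfl⟩)))
        simp only [map_mul, map_inv, map_orb, FreeGroup.lift_apply_of, zh, zv] at this
        exact this
      obtain ⟨-, hfin, hle⟩ := bound_brute D hz z4 hMo z5 hlow
      exact ⟨hfin, hle.trans hcard⟩

/-- The crossing relation. -/
theorem cross_rel (hρ : ∀ x : Fˣ, x ∈ Submonoid.powers ρ) (hq : q ≠ 2) :
    ∃ (R Wg : FreeGroup (Fin 5)) (a₀ b₀ : F) (h₀ : Cond q a₀ b₀), FreeGroup.lift (gens5 hF hδ hδt ρ h₁) R = 1 ∧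
      Wg ∈ WU zκ ∧ FreeGroup.lift (gens5 hF hδ hδt ρ h₁) Wg = jU hF h₀ ∧ a₀ ≠ 0 ∧ b₀ * δ = ρ ∧
      ∀ (H : Type) [Group H] (U : Fin 5 → H) (κ : SpecialLinearGroup (Fin 2) (fixK hF) →* H),
        (∀ M, κ M = FreeGroup.lift U (zκ M)) → FreeGroup.lift U R = 1 →
        ∃ x ∈ Ug κ (U 3) (U 4), ∃ k : ℤ, ∃ y ∈ Ug κ (U 3) (U 4),
          (κ mT)⁻¹ * FreeGroup.lift U Wg * κ mT = x * U 3 ^ k * κ mT * y := by
  set b₀ := (ρ : F) / δ with hb₀
  have hb : b₀ ≠ 0 := div_ne_zero ρ.ne_zero hδ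
  have hρq : (ρ : F) ^ q ≠ (ρ : F) := fun e => by
    have hq2 := Unitary.two_le_q hF
    have h1 : ρ ^ (q - 1) = 1 := Units.ext (mul_right_cancel₀ ρ.ne_zero (by
      rw [Units.val_pow_eq_pow_val, ← pow_succ, Nat.sub_add_cancel (by omega), e, Units.val_one, one_mul]))
    have h2 := Nat.le_of_dvd (by omega) (orderOf_dvd_of_pow_eq_one h1)
    rw [orderOf_gen hF hρ] at h2
    have : 2 * q ≤ q ^ 2 := by rw [sq]; exact Nat.mul_le_mul_right q hq2
    omega
  obtain ⟨a₀, ha₀⟩ := Unitary.exists_norm_eq hF (t := -(b₀ + b₀ ^ q)) (by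
    rw [Unitary.neg_pow_q hF, Unitary.add_pow_q hF, Unitary.pow_q_pow_q hF, add_comm])
  have h₀ : Cond q a₀ b₀ := by unfold Cond; rw [← pow_succ', ha₀]; ring
  have hane : a₀ ≠ 0 := fun e => hρq (by
    rw [e, zero_pow (Nat.succ_ne_zero q), zero_eq_neg, hb₀, div_pow, hδt] at ha₀
    field_simp at ha₀
    linear_combination -ha₀)
  obtain ⟨Wg, hWg, eWg⟩ := exists_word hzκ hρ hq h₀
  set X := (wM hF hδ hδt)⁻¹ * jU hF h₀ * wM hF hδ hδt with hX
  have hX20 : mat hF X 2 0 ≠ 0 := by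
    rw [hX, wM_inv]
    simp [mat_mul, mat_wM, mat_jU, mat_hM, Matrix.mul_apply, Fin.sum_univ_three, Unitary.neg_pow_q hF, hb, hδ]
  rcases cases_cell hF hδ hδt X with ⟨a, b, h, l, e⟩ | ⟨a, b, c, d, h, h', l, e⟩
  · exact absurd (by rw [e]; simp [mat_mul, mat_jU, mat_hM, Matrix.mul_apply, Fin.sum_univ_three]) hX20
  have hc := hM_conj hF h' l⁻¹
  set c' := eps q ((l⁻¹ : Fˣ) : F) * c
  set d' := ((l⁻¹ : Fˣ) : F) * ((l⁻¹ : Fˣ) : F) ^ q * d
  obtain ⟨W1, hW1, eW1⟩ := exists_word hzκ hρ hq h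
  obtain ⟨W2, hW2, eW2⟩ := exists_word hzκ hρ hq (cond_scale hF h' l⁻¹)
  obtain ⟨k, hk⟩ := hρ ((-l) ^ q)⁻¹
  refine ⟨(zκ mT)⁻¹ * Wg * zκ mT * (W1 * FreeGroup.of 3 ^ k * zκ mT * W2)⁻¹, Wg, a₀, b₀, h₀, ?_, hWg, eWg,
    hane, div_mul_cancel₀ _ hδ, fun H _ U κ hκ hR => ?_⟩
  · simp only [map_mul, map_inv, map_pow, hzκ, eWg, eW1, eW2, FreeGroup.lift_apply_of, gens5_three]
    rw [mul_inv_eq_one, ← map_pow, show ρ ^ k = ((-l) ^ q)⁻¹ from hk]
    show X = jU hF h * hM hF ((-l) ^ q)⁻¹ * wM hF hδ hδt * jU hF _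
    rw [e, wM_inv, ← hc, ← wM_conj hF hδ hδt, map_inv, show -l = -1 * l by simp, map_mul]
    group
  · simp only [map_mul, map_inv, map_pow, ← hκ, FreeGroup.lift_apply_of] at hR
    exact ⟨_, lift_WU hκ hW1, k, _, lift_WU hκ hW2, by rw [zpow_natCast]; exact mul_inv_eq_one.mp hR⟩

end Cfsg.Agent.KSG55.SU3
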